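import Groth.Agent.FalLib.Finite
import Groth.Prelude.Def_W4bk5brsh7111920

/-!
# Faltings' annihilator theorem
-/

set_option autoImplicit false
set_option linter.style.haveILetI false
set_option linter.unusedSectionVars false
set_option maxHeartbeats 1000000

universe u

open CategoryTheory CategoryTheory.Limits IsLocalRing LocCohLib DTen
open CategoryTheory.Pretriangulated (Triangle)
open Groth.Agent Groth.Agent.DualCxLib
open DTenLib.Point (hH sg)

attribute [local instance] HasDerivedCategory.standard

noncomputable section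

namespace FalLib

variable {R : Type u} [CommRing R]

/-- A power of `g` kills `V`. -/
def Kills (g : R) (V : Type*) [AddCommGroup V] [Module R V] : Prop := ∃ k : ℕ, ∀ x : V, g ^ k • x = 0

theorem Kills.congr {g : R} {V W : Type*} [AddCommGroup V] [Module R V] [AddCommGroup W] [Module R W]
    (e : V ≃ₗ[R] W) (h : Kills g W) : Kills g V := by
  obtain ⟨k, hk⟩ := h
  exact ⟨k, fun x => e.injective (by rw [map_smul, map_zero, hk])⟩

theorem kills_of_subsingleton (g : R) {V : Type*} [AddCommGroup V] [Module R V] (h : Subsingleton V) : Kills g V :=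
  ⟨0, fun x => Subsingleton.elim _ _⟩

theorem kills_of_triangle {g : R} {T : Triangle (Dual.D R)} (hT : T ∈ distTriang (Dual.D R)) {Y : Dual.D R}
    (h1 : Kills g (T.obj₁ ⟶ Y)) (h3 : Kills g (T.obj₃ ⟶ Y)) : Kills g (T.obj₂ ⟶ Y) := by
  obtain ⟨a, ha⟩ := h1
  obtain ⟨b, hb⟩ := h3
  refine ⟨b + a, fun f => ?_⟩
  obtain ⟨φ, hφ⟩ := Triangle.yoneda_exact₂ _ hT (g ^ a • f) ((Linear.comp_smul _ _ _ _ _ _).trans (ha (T.mor₁ ≫ f)))
  rw [pow_add, mul_smul, hφ, ← Linear.comp_smul, hb φ, comp_zero]

variable [IsRegularRing R]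

/-- The annihilation theorem over a regular ring. -/
theorem kills_regular (fs : List R) (g : R) (M : Type u) [AddCommGroup M] [Module R M] [Module.Finite R M] (i : ℕ)
    (h : ∀ r q : PrimeSpectrum R, r ≤ q → g ∉ r.asIdeal → idealOf fs ≤ q.asIdeal → ∀ k : ℕ,
      ht q = k + i → Van r.asIdeal (E (ModuleCat.of R M) k)) :
    Kills g (LocCoh.H (idealOf fs) i M) := by
  obtain ⟨h1, h2, h3, h4⟩ := exists_binders (A := R)
  haveI := h1; haveI := h2; haveI := h3; haveI := h4
  obtain ⟨L, hL, hLY⟩ := exists_dual (R := R) M (Yc fs)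
  obtain ⟨d, hd⟩ := exists_bound (R := R) M
  obtain ⟨t⟩ := nonempty_cech_tensor (R := R) fs M
  obtain ⟨e⟩ := hLY (i : ℤ)
  let e' : LocCoh.H (idealOf fs) i M ≃ₗ[R] (L ⟶ (Yc fs)⟦(i : ℤ)⟧) :=
    ((cechEquiv fs (idealOf fs) rfl i M).trans
      ((DerivedCategory.homologyFunctorFactors (ModuleCat.{u} R) (i : ℤ)).app _).toLinearEquiv.symm).trans
      (((hH R (i : ℤ)).mapIso t).toLinearEquiv.symm.trans e)
  suffices Kills g (L ⟶ (Yc fs)⟦(i : ℤ)⟧) from this.congr e'
  refine DRingLib.Devissable.of_homology (P := fun X : Dual.D R => Kills g (X ⟶ (Yc fs)⟦(i : ℤ)⟧))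
    { iso := fun {X X'} (u : X ≅ X') hX => hX.congr (precompL u.symm _)
      zero := fun {X} (hX : IsZero X) => kills_of_subsingleton g ⟨fun f f' => hX.eq_of_src f f'⟩
      ext := fun T hT h1 h3 => kills_of_triangle hT h1 h3 }
    0 (d + 1) L (fun j hj => ?_) fun j => ?_
  · obtain ⟨ej⟩ := hL j
    haveI := hd j (by omega)
    exact @ModuleCat.isZero_of_subsingleton R _ _ ej.injective.subsingleton
  obtain ⟨ej⟩ := hL j
  let N : ModuleCat.{u} R := (hH R j).obj L
  obtain ⟨es⟩ := nonempty_hom_single N (Yc fs) j (i : ℤ)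
  suffices Kills g (DualCxLib.Ext (Yc fs) N ((i : ℤ) + j)) from this.congr es
  haveI : IsNoetherian R N := by
    haveI := isNoetherian_E (R := R) M j
    exact isNoetherian_of_linearEquiv ej.symm
  refine dévissage (P := fun W _ _ => Kills g (DualCxLib.Ext (Yc fs) (ModuleCat.of R W) ((i : ℤ) + j)))
    (fun W _ _ hW => kills_of_subsingleton g (subsingleton_ext_zero hW (Yc fs) ((i : ℤ) + j)))
    (fun u hW => hW.congr (precompL
      ((DerivedCategory.singleFunctor (ModuleCat.{u} R) 0).mapIso u.toModuleIso) _))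
    (fun S hS h1 h3 => @kills_of_triangle R _ g _ hS.singleTriangle_distinguished _ h1 h3) N fun q hq => ?_
  by_cases hqg : g ∈ q.asIdeal
  · refine ⟨1, fun f => ?_⟩
    rw [pow_one, ← extMap_smul_id g (ModuleCat.of R (R ⧸ q.asIdeal)) ((i : ℤ) + j) f,
      show g • 𝟙 (ModuleCat.of R (R ⧸ q.asIdeal)) = 0 from
        ModuleCat.hom_ext (LinearMap.ext fun x => smul_quotient_eq_zero hqg x)]
    show (DerivedCategory.singleFunctor (ModuleCat.{u} R) 0).map 0 ≫ f = 0
    rw [Functor.map_zero, zero_comp]
  · refine kills_of_subsingleton g (subsingleton_prime fs ((i : ℤ) + j) q fun q' hqq' hI' hht => ?_)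
    refine mem_support_not_van ej hq ?_
    rcases lt_or_ge j 0 with hj | hj
    · haveI := hd j (Or.inl hj)
      exact van_of_subsingleton
    · obtain ⟨k, rfl⟩ := Int.eq_ofNat_of_zero_le hj
      exact h q q' hqq' hqg hI' k (by omega)

variable {A : Type u} [CommRing A] [Algebra R A]

theorem height_map_le (hs : Function.Surjective (algebraMap R A)) {p q : PrimeSpectrum A} (hpq : p ≤ q) :
    (q.asIdeal.map (Ideal.Quotient.mk p.asIdeal)).height ≤ ((rht R q - rht R p : ℕ) : ℕ∞) := by
  let mk := Ideal.Quotient.mk p.asIdeal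
  haveI : (q.asIdeal.map mk).IsPrime :=
    Ideal.map_isPrime_of_surjective Ideal.Quotient.mk_surjective (by rw [Ideal.mk_ker]; exact hpq)
  let qb : PrimeSpectrum (A ⧸ p.asIdeal) := ⟨q.asIdeal.map mk, this⟩
  show qb.asIdeal.height ≤ _
  rw [PrimeSpectrum.height_eq_orderHeight]
  let e := CatLib.quotEmb p.asIdeal
  have he : ∀ x, p ≤ e x := fun x => by
    have h1 : e x ∈ Set.range e := ⟨x, rfl⟩
    rw [CatLib.range_quotEmb] at h1
    exact h1
  have heq : e qb = q := PrimeSpectrum.ext (by
    show (q.asIdeal.map mk).comap mk = q.asIdeal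
    rw [Ideal.comap_map_of_surjective _ Ideal.Quotient.mk_surjective, ← RingHom.ker_eq_comap_bot, Ideal.mk_ker,
      sup_eq_left.2 hpq])
  refine Order.height_le fun l hl => ?_
  have key : ∀ (j : ℕ) (hj : j < l.length + 1), rht R p + j ≤ rht R (e (l ⟨j, hj⟩)) := by
    intro j
    induction j with
    | zero => intro hj; exact rht_le (he _)
    | succ j ih =>
      intro hj
      have h2 : rht R (e (l ⟨j, by omega⟩)) < rht R (e (l ⟨j + 1, hj⟩)) :=
        rht_lt hs (e.strictMono (l.step ⟨j, by omega⟩))
      have := ih (by omega)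
      omega
  have h1 := key l.length (Nat.lt_succ_self _)
  rw [show l ⟨l.length, _⟩ = l.last from rfl, hl, heq] at h1
  exact_mod_cast (show l.length ≤ rht R q - rht R p by omega)

/-- The annihilator theorem for a quotient of a regular ring. -/
theorem minAdjDepth_le [IsNoetherianRing A] (hs : Function.Surjective (algebraMap R A)) (a b : Ideal A) (M : Type u)
    [AddCommGroup M] [Module A M] [Module R M] [IsScalarTower R A M] [Module.Finite A M] [Module.Finite R M] :
    LocCoh.minAdjDepth a b M ≤ LocCoh.finDimRel a b M := by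
  refine le_iInf₂ fun i hi => ?_
  by_contra hcon
  rw [not_le] at hcon
  obtain ⟨G, hG⟩ := (IsNoetherian.noetherian (a.comap (algebraMap R A)) : (a.comap (algebraMap R A)).FG)
  let fs : List R := G.toList
  have hfs : idealOf fs = a.comap (algebraMap R A) := by
    rw [← hG]
    show Ideal.span {x | x ∈ G.toList} = Submodule.span R (G : Set R)
    simp only [Finset.mem_toList]
    rfl
  refine hi fun y hy => ?_
  obtain ⟨g, rfl⟩ := hs y
  have hk := kills_regular fs g M i fun r q hrq hgr hq k hk => by
    by_cases hker : RingHom.ker (algebraMap R A) ≤ r.asIdeal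
    · obtain ⟨r', hr'⟩ : r ∈ Set.range (PrimeSpectrum.comap (algebraMap R A)) := by
        rw [range_comap_of_surjective _ _ hs, PrimeSpectrum.mem_zeroLocus]; exact hker
      obtain ⟨q', hq'⟩ : q ∈ Set.range (PrimeSpectrum.comap (algebraMap R A)) := by
        rw [range_comap_of_surjective _ _ hs, PrimeSpectrum.mem_zeroLocus]; exact hker.trans hrq
      subst hr' hq'
      rw [hfs] at hq
      have haq : a ≤ q'.asIdeal := fun x hx => by
        obtain ⟨z, rfl⟩ := hs x
        exact hq hx
      have hle := (comap_le_iff hs).1 hrq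
      by_contra hvan
      have hkr : k ≤ rht R r' := by
        by_contra hlt
        have hh : ringKrullDim (Localization.AtPrime (below (R := R) r').asIdeal) = rht R r' := by
          rw [IsLocalization.AtPrime.ringKrullDim_eq_height (below (R := R) r').asIdeal, ← coe_ht (below (R := R) r')]
          rfl
        exact hvan ((van_iff_stalk _ hh k M).2 fun j hj => absurd hj (by omega))
      have hdepth : LocCoh.depth (Localization.AtPrime r'.asIdeal) (LocalizedModule r'.asIdeal.primeCompl M) ≤
          ((rht R r' - k : ℕ) : ℕ∞) := by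
        by_contra hd
        rw [not_le] at hd
        haveI : IsNoetherianRing (Localization.AtPrime r'.asIdeal) :=
          IsLocalization.isNoetherianRing r'.asIdeal.primeCompl _ inferInstance
        haveI : Module.Finite (Localization.AtPrime r'.asIdeal) (LocalizedModule r'.asIdeal.primeCompl M) :=
          Module.Finite.of_isLocalizedModule r'.asIdeal.primeCompl (LocalizedModule.mkLinearMap r'.asIdeal.primeCompl M)
        have h' : ((rht R r' - k + 1 : ℕ) : ℕ∞) ≤
            LocCoh.depth (Localization.AtPrime r'.asIdeal) (LocalizedModule r'.asIdeal.primeCompl M) := by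
          push_cast
          exact Order.add_one_le_of_lt hd
        have hsub := (le_idealDepth_iff_subsingleton_H (I := maximalIdeal (Localization.AtPrime r'.asIdeal))
          (LocalizedModule r'.asIdeal.primeCompl M) _).1 h' (rht R r' - k) (Nat.lt_succ_self _)
        exact hvan ((stalk_iff (R := R) hs M r' _).1 hsub k (by omega))
      have hadj : LocCoh.adjDepth a M r' ≤ (i : ℕ∞) := by
        refine (add_le_add hdepth ((Ideal.height_mono (Ideal.map_mono (sup_le haq hle))).trans
          (height_map_le (R := R) hs hle))).trans ?_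
        have := rht_le (R := R) hle
        change rht R q' = k + i at hk
        exact_mod_cast (show rht R r' - k + (rht R q' - rht R r') ≤ i by omega)
      have hb : ¬ b ≤ r'.asIdeal := fun hb => hgr (hb hy)
      exact absurd ((iInf₂_le r' hb).trans hadj) (not_le.2 hcon)
    · obtain ⟨z, hz, hzr⟩ := SetLike.not_le_iff_exists.1 hker
      refine van_ext_of_killed (M := ModuleCat.of R M) hzr (fun x => ?_) _
      show z • x = 0
      rw [← algebraMap_smul A z x, RingHom.mem_ker.1 hz, zero_smul]
  obtain ⟨n, hn⟩ := hk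
  obtain ⟨φ, hφ⟩ := exists_addEquiv_restrict (idealOf fs) (R' := A) M i
  rw [← show (idealOf fs).map (algebraMap R A) = a by rw [hfs]; exact Ideal.map_comap_of_surjective _ hs a]
  refine ⟨n, Module.mem_annihilator.2 fun x => φ.injective ?_⟩
  rw [map_zero, ← map_pow, hφ, hn]

end FalLib
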