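import Groth.Agent.FalLib.FinLen
import Groth.Agent.FalLib.Faltings
import Groth.Agent.GorLib.Basic
import Groth.Agent.S0345

/-!
# The annihilator of local cohomology at the maximal ideal
-/

set_option autoImplicit false
set_option linter.style.haveILetI false
set_option linter.unusedSectionVars false
set_option maxHeartbeats 1000000

universe u

open CategoryTheory IsLocalRing LocCohLib
open Groth.Agent Groth.Agent.DualCxLib

attribute [local instance] HasDerivedCategory.standard

noncomputable section

namespace FalLib

theorem isGorensteinRing_of_local (A : Type u) [CommRing A] [LocCoh.IsGorensteinLocalRing A] :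
    LocCoh.IsGorensteinRing A :=
  ((Groth.Agent.S0345.result A).1 LocCoh.IsGorensteinLocalRing.exists_hasInjectiveDimensionLT).1

variable {R : Type u} [CommRing R] [LocCoh.IsGorensteinLocalRing R] {n : ℕ}

theorem kills_iff_support {H Q : Type u} [AddCommGroup H] [Module R H] [AddCommGroup Q] [Module R Q]
    [Module.Finite R Q] {E : Type u} [AddCommGroup E] [Module R E] {f : ResidueField R →ₗ[R] E}
    (hf : InjHull.IsInjectiveHull f) (e : H ≃ₗ[R] (Q →ₗ[R] E)) (g : R) :
    Kills g H ↔ ∀ P : PrimeSpectrum R, g ∉ P.asIdeal → ∀ x : Q, ∃ s ∉ P.asIdeal, s • x = 0 := by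
  have h1 : Kills g H ↔ g ∈ (Module.annihilator R Q).radical := by
    rw [InjHullLib.annihilator_dual hf (G := Q), ← e.annihilator_eq]
    exact exists_congr fun k => Module.mem_annihilator.symm
  rw [h1]
  constructor
  · intro h P hP
    by_contra hcon
    have hmem : P ∈ Module.support R Q := by
      refine by_contra fun hns => hcon ?_
      rw [Module.notMem_support_iff, LocalizedModule.subsingleton_iff] at hns
      exact hns
    exact hP ((P.isPrime.radical_le_iff).2 (Module.annihilator_le_of_mem_support hmem) h)
  · intro h
    rw [Ideal.radical_eq_sInf, Submodule.mem_sInf]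
    intro P hP
    refine by_contra fun hg => ?_
    have hmem : (⟨P, hP.2⟩ : PrimeSpectrum R) ∈ Module.support R Q :=
      Module.support_eq_zeroLocus (R := R) (M := Q) ▸ hP.1
    rw [Module.mem_support_iff] at hmem
    exact not_subsingleton_iff_nontrivial.2 hmem (LocalizedModule.subsingleton_iff.2 (h ⟨P, hP.2⟩ hg))

/-- `g` kills a power of `H^{n-k}_m(M)` iff `Ext^k(M, R)` vanishes away from `g`. -/
theorem kills_iff_van (hn : ringKrullDim R = n) (g : R) :
    ∀ (k : ℕ) (M : Type u) [AddCommGroup M] [Module R M] [Module.Finite R M],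
    (∀ j, j + k = n → Kills g (LocCoh.H (maximalIdeal R) j M)) ↔
      ∀ P : PrimeSpectrum R, g ∉ P.asIdeal → Van P.asIdeal (E (ModuleCat.of R M) k) := by
  haveI : LocCoh.IsGorensteinRing R := isGorensteinRing_of_local R
  haveI : IsNoetherianRing R := inferInstance
  obtain ⟨E', _, _, f, hf⟩ := InjHullLib.exists_injectiveHull (R := R) (ResidueField R)
  obtain ⟨-, ⟨eK⟩⟩ := gorenstein_canon R n hn E' f hf
  intro k
  induction k with
  | zero =>
    intro M _ _ _
    haveI : Module.Finite R (M →ₗ[R] R) := inferInstance
    have key := kills_iff_support hf (CanonModLib.topDual hn.le hf.isInjective eK M) g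
    rw [Nat.cast_zero]
    simp only [add_zero, forall_eq, van_zero_iff]
    exact key
  | succ k ih =>
    intro M _ _ _
    obtain ⟨r, π, hπ⟩ := Module.Finite.exists_fin' R M
    let S : ShortComplex (ModuleCat.{u} R) := ShortComplex.mk
      (ModuleCat.ofHom (LinearMap.ker π).subtype)
      (ModuleCat.ofHom π : ModuleCat.of R (Fin r → R) ⟶ ModuleCat.of R M)
      (ModuleCat.hom_ext (LinearMap.ext fun x => x.2))
    have hS : S.ShortExact :=
      { exact := (ShortComplex.moduleCat_exact_iff_range_eq_ker S).2 (Submodule.range_subtype _)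
        mono_f := (ModuleCat.mono_iff_injective _).2 Subtype.val_injective
        epi_g := (ModuleCat.epi_iff_surjective _).2 hπ }
    haveI : Projective S.X₂ := by
      haveI : Module.Projective R (ModuleCat.of R (Fin r → R)) := inferInstanceAs (Module.Projective R (Fin r → R))
      exact (IsProjective.iff_projective _).1 inferInstance
    let N := LinearMap.ker π
    let f₀ := N.subtype
    have hi : Function.Injective f₀ := N.injective_subtype
    have he : Function.Exact f₀ π := LinearMap.exact_subtype_ker_map π
    rcases Nat.eq_zero_or_pos k with rfl | hk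
    · cases n with
      | zero =>
        refine iff_of_true (fun j hj => absurd hj (by omega)) fun P _ => ?_
        have hh : ringKrullDim (Localization.AtPrime P.asIdeal) = ((0 : ℕ) : WithBot ℕ∞) := by
          haveI : Ring.KrullDimLE 0 R := Ring.krullDimLE_iff.2 (le_of_eq hn)
          rw [IsLocalization.AtPrime.ringKrullDim_eq_height P.asIdeal,
            IsLocalRing.eq_maximalIdeal (Ideal.isMaximal_of_isPrime P.asIdeal),
            IsLocalRing.maximalIdeal_height_eq_ringKrullDim, hn]
        exact (van_iff_stalk P hh (0 + 1) M).2 fun j hj => absurd hj (by omega)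
      | succ m =>
        have hF := subsingleton_H_free_of_lt hn (Fin r → R) (Nat.lt_succ_self m)
        let δ := Hδ (I := maximalIdeal R) hi he hπ m
        have hinj : Function.Injective δ := (injective_iff_map_eq_zero _).2 fun y hy => by
          obtain ⟨z, rfl⟩ := ((exact_Hδ hi he hπ m).2 y).1 hy
          rw [Subsingleton.elim z 0, map_zero]
        let d : LocCoh.H (maximalIdeal R) m M ≃ₗ[R] LinearMap.ker (CanonModLib.topMap (m + 1) f₀) :=
          (LinearEquiv.ofInjective δ hinj).trans (LinearEquiv.ofEq _ _
            (LinearMap.exact_iff.1 (exact_Hδ hi he hπ m).1).symm)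
        obtain ⟨e⟩ := CanonModLib.kerEquiv hn.le hf.isInjective eK f₀
        have key := kills_iff_support hf (d.trans e) g
        have h1 : ∀ P : PrimeSpectrum R, Van P.asIdeal (E (ModuleCat.of R M) 1) ↔
            ∀ x : (N →ₗ[R] R) ⧸ LinearMap.range (LinearMap.lcomp R R f₀), ∃ s ∉ P.asIdeal, s • x = 0 := fun P => by
          rw [show Van P.asIdeal (E (ModuleCat.of R M) 1) ↔ _ from van_one_iff hS]
          constructor
          · intro h x
            obtain ⟨φ, rfl⟩ := Submodule.Quotient.mk_surjective _ x
            obtain ⟨s, hs, χ, hχ⟩ := h φ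
            exact ⟨s, hs, (Submodule.Quotient.mk_eq_zero _).2 ⟨χ, hχ.symm⟩⟩
          · intro h φ
            obtain ⟨s, hs, h0⟩ := h (Submodule.Quotient.mk φ)
            rw [← Submodule.Quotient.mk_smul, Submodule.Quotient.mk_eq_zero] at h0
            obtain ⟨χ, hχ⟩ := h0
            exact ⟨s, hs, χ, hχ.symm⟩
        rw [show ((0 + 1 : ℕ) : ℤ) = 1 from rfl]
        simp only [Nat.zero_add, h1]
        rw [← key]
        exact ⟨fun h => h m rfl, fun h j hj => by obtain rfl : j = m := by omega
                                                  exact h⟩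
    · have h0 : ∀ i : ℤ, i ≠ 0 → ∀ P : PrimeSpectrum R, Van P.asIdeal (E S.X₂ i) := fun i hi P =>
        haveI := subsingleton_of_projective S.X₂ hi
        van_of_subsingleton
      have hbij : ∀ j, j + (k + 1) = n → Function.Bijective (Hδ (I := maximalIdeal R) hi he hπ j) := fun j hj => by
        haveI := subsingleton_H_free_of_lt hn (Fin r → R) (q := j) (by omega)
        haveI := subsingleton_H_free_of_lt hn (Fin r → R) (q := j + 1) (by omega)
        refine ⟨(injective_iff_map_eq_zero _).2 fun y hy => ?_,
          fun y => ((exact_Hδ hi he hπ j).1 y).1 (Subsingleton.elim _ _)⟩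
        obtain ⟨z, rfl⟩ := ((exact_Hδ hi he hπ j).2 y).1 hy
        rw [Subsingleton.elim z 0, map_zero]
      calc (∀ j, j + (k + 1) = n → Kills g (LocCoh.H (maximalIdeal R) j M))
          ↔ ∀ j, j + k = n → Kills g (LocCoh.H (maximalIdeal R) j N) := by
            constructor
            · intro h j hj
              rcases j with _ | j
              · haveI := subsingleton_H_free_of_lt hn (Fin r → R) (q := 0) (by omega)
                have hm := (lcDelta (maximalIdeal R)).mono₀ (shortExact_of hi he hπ)
                exact kills_of_subsingleton g (Function.Injective.subsingleton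
                  ((ModuleCat.mono_iff_injective ((localCohomology (maximalIdeal R) 0).map (ModuleCat.ofHom f₀))).1 hm))
              · exact (h j (by omega)).congr (LinearEquiv.ofBijective _ (hbij j (by omega))).symm
            · intro h j hj
              exact (h (j + 1) (by omega)).congr (LinearEquiv.ofBijective _ (hbij j hj))
        _ ↔ ∀ P : PrimeSpectrum R, g ∉ P.asIdeal → Van P.asIdeal (E (ModuleCat.of R N) k) := ih N
        _ ↔ _ := forall_congr' fun P => imp_congr_right fun _ =>
            ⟨fun hv => van_ext₃ hS _ (k : ℤ) (by push_cast; ring) hv (h0 _ (by omega) P),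
              fun hv => van_ext₁ hS (k : ℤ) (h0 _ (by omega) P) (by exact_mod_cast hv)⟩

variable {A : Type u} [CommRing A] [IsLocalRing A] [IsNoetherianRing A] [Algebra R A]

theorem le_radical_annihilator_iff (hs : Function.Surjective (algebraMap R A)) (M : Type u) [AddCommGroup M]
    [Module A M] [Module R M] [IsScalarTower R A M] [Module.Finite A M] [Module.Finite R M] (J : Ideal A) (i : ℕ) :
    J ≤ (Module.annihilator A (LocCoh.H (maximalIdeal A) i M)).radical ↔
      ∀ p : PrimeSpectrum A, ¬ J ≤ p.asIdeal → ∀ (e j : ℕ), ringKrullDim (A ⧸ p.asIdeal) = e → j + e = i →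
        Subsingleton
          (LocCoh.H (maximalIdeal (Localization.AtPrime p.asIdeal)) j (LocalizedModule p.asIdeal.primeCompl M)) := by
  haveI : LocCoh.IsGorensteinRing R := isGorensteinRing_of_local R
  obtain ⟨n, hn⟩ := CommAlgDim.exists_ringKrullDim_eq (R := R)
  have hmA : (maximalIdeal A).comap (algebraMap R A) = maximalIdeal R :=
    IsLocalRing.eq_maximalIdeal (Ideal.comap_isMaximal_of_surjective _ hs)
  have hmap : (maximalIdeal R).map (algebraMap R A) = maximalIdeal A := by
    rw [← hmA]; exact Ideal.map_comap_of_surjective _ hs _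
  have hh : ∀ P : PrimeSpectrum R, ringKrullDim (Localization.AtPrime P.asIdeal) = ht P := fun P => by
    rw [IsLocalization.AtPrime.ringKrullDim_eq_height P.asIdeal, ← coe_ht P]
    rfl
  have hdim : ∀ (p : PrimeSpectrum A) (e : ℕ), ringKrullDim (A ⧸ p.asIdeal) = e → ht (below (R := R) p) + e = n :=
    fun p e he => by
    have h1 := CatLib.ringKrullDim_quotient_add_height (R := R) GorLib.isCM_of_gorenstein
      (below (R := R) p).asIdeal
    rw [DualCxLib.ringKrullDim_quotient_comap (S := R) hs, he, hn, ← coe_ht (below (R := R) p)] at h1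
    change ((e : ℕ∞) : WithBot ℕ∞) + ((ht (below (R := R) p) : ℕ∞) : WithBot ℕ∞) = ((n : ℕ∞) : WithBot ℕ∞) at h1
    have h2 : e + ht (below (R := R) p) = n := by exact_mod_cast h1
    omega
  obtain ⟨φ, hφ⟩ := exists_addEquiv_restrict (maximalIdeal R) (R' := A) M i
  have hL : J ≤ (Module.annihilator A (LocCoh.H (maximalIdeal A) i M)).radical ↔
      ∀ r : R, algebraMap R A r ∈ J → Kills r (LocCoh.H (maximalIdeal R) i M) := by
    rw [← hmap]
    constructor
    · intro h r hr
      obtain ⟨k, hk⟩ := h hr
      refine ⟨k, fun y => ?_⟩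
      obtain ⟨x, rfl⟩ := φ.surjective y
      rw [← hφ, map_pow, Module.mem_annihilator.1 hk x, map_zero]
    · intro h a ha
      obtain ⟨r, rfl⟩ := hs a
      obtain ⟨k, hk⟩ := h r ha
      refine ⟨k, Module.mem_annihilator.2 fun x => φ.injective ?_⟩
      rw [← map_pow, hφ, hk, map_zero]
  rw [hL]
  by_cases hin : i ≤ n
  · constructor
    · intro h p hp e j he hj
      obtain ⟨a, haJ, hap⟩ := SetLike.not_le_iff_exists.1 hp
      obtain ⟨r, rfl⟩ := hs a
      have := hdim p e he
      have hv : Van (below (R := R) p).asIdeal (E (ModuleCat.of R M) (n - i : ℕ)) :=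
        (kills_iff_van hn r (n - i) M).1 (fun j' hj' => by
          obtain rfl : j' = i := by omega
          exact h r haJ) _ hap
      rw [subsingleton_stalk_iff (R := R) hs p M j]
      exact (van_iff_stalk _ (hh _) (n - i) M).1 hv j (by omega)
    · intro h r hr
      refine (kills_iff_van hn r (n - i) M).2 (fun P hrP => (van_iff_stalk P (hh P) (n - i) M).2 fun j hj => ?_) i (by omega)
      by_cases hker : RingHom.ker (algebraMap R A) ≤ P.asIdeal
      · haveI := Ideal.map_isPrime_of_surjective hs hker
        obtain ⟨p, rfl⟩ : ∃ p : PrimeSpectrum A, below (R := R) p = P :=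
          ⟨⟨P.asIdeal.map (algebraMap R A), inferInstance⟩, PrimeSpectrum.ext (by
            show (P.asIdeal.map (algebraMap R A)).comap (algebraMap R A) = P.asIdeal
            rw [Ideal.comap_map_of_surjective _ hs, ← RingHom.ker_eq_comap_bot, sup_eq_left]
            exact hker)⟩
        obtain ⟨e, he⟩ : ∃ e : ℕ, ringKrullDim (A ⧸ p.asIdeal) = e := by
          haveI : IsLocalRing (A ⧸ p.asIdeal) := IsLocalRing.of_surjective' _ Ideal.Quotient.mk_surjective
          exact CommAlgDim.exists_ringKrullDim_eq
        have := hdim p e he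
        rw [← subsingleton_stalk_iff (R := R) hs p M j]
        exact h p (fun hle => hrP (hle hr)) e j he (by omega)
      · obtain ⟨c, hc, hcP⟩ := SetLike.not_le_iff_exists.1 hker
        haveI : Subsingleton (LocalizedModule P.asIdeal.primeCompl M) :=
          LocalizedModule.subsingleton_iff.2 fun x => ⟨c, hcP, by
            rw [← algebraMap_smul A c x, RingHom.mem_ker.1 hc, zero_smul]⟩
        haveI : IsNoetherianRing (Localization.AtPrime P.asIdeal) := inferInstance
        exact subsingleton_H_of_subsingleton _ j
  · refine iff_of_true (fun r _ => kills_of_subsingleton r (subsingleton_H_of_supportDim_lt i M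
      (lt_of_le_of_lt ((Module.supportDim_le_ringKrullDim _ _).trans hn.le)
        (by exact_mod_cast not_le.1 hin)))) fun p _ e j he hj => ?_
    have := hdim p e he
    rw [subsingleton_stalk_iff (R := R) hs p M j]
    let P := below (R := R) p
    haveI : IsNoetherianRing (Localization.AtPrime P.asIdeal) := inferInstance
    haveI : Module.Finite (Localization.AtPrime P.asIdeal) (LocalizedModule P.asIdeal.primeCompl M) :=
      Module.Finite.of_isLocalizedModule P.asIdeal.primeCompl (LocalizedModule.mkLinearMap P.asIdeal.primeCompl M)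
    exact subsingleton_H_of_supportDim_lt j _ (lt_of_le_of_lt
      ((Module.supportDim_le_ringKrullDim _ _).trans (hh P).le)
        (by exact_mod_cast (show ht (below (R := R) p) < j by omega)))

end FalLib
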