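import Groth.Agent.LocCohLib.Compare
import Groth.Agent.DTenLib.ProKoszulD
import Groth.Agent.DTenLib.Val
import Mathlib.RingTheory.TensorProduct.Basic
import Mathlib.RingTheory.Flat.Stability

/-!
# The extended Čech complex of a finite module is a tensor product
-/

set_option autoImplicit false
set_option linter.style.haveILetI false
set_option linter.unusedSectionVars false
set_option maxHeartbeats 800000

universe u

open CategoryTheory CategoryTheory.Limits MonoidalCategory HomologicalComplex LocCohLib
open scoped TensorProduct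

noncomputable section

namespace FalLib

variable {R : Type u} [CommRing R]

theorem cechMap_add {M N : ModuleCat.{u} R} (g h : M ⟶ N) :
    ∀ fs : List R, cechMap (g + h) fs = cechMap g fs + cechMap h fs
  | [] => Functor.map_add _
  | f :: fs => by
    simp only [cechMap, coconeMap, cechMap_add g h fs, Functor.map_add]
    refine (congrArg _ ?_).trans (Functor.map_add _)
    refine HomologicalComplex.hom_ext _ _ fun n => ?_
    simp [CochainComplex.mappingCone.ext_from_iff _ (n + 1) n rfl, CochainComplex.mappingCone.map]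

theorem cechMap_smul {M N : ModuleCat.{u} R} (r : R) (g : M ⟶ N) :
    ∀ (fs : List R), cechMap (r • g) fs = r • cechMap g fs
  | [] => by
    refine HomologicalComplex.hom_ext _ _ fun n => ?_
    show ((single (ModuleCat.{u} R) (ComplexShape.up ℤ) 0).map (r • g)).f n =
      r • ((single (ModuleCat.{u} R) (ComplexShape.up ℤ) 0).map g).f n
    by_cases h : n = 0
    · subst h
      rw [HomologicalComplex.single_map_f_self, HomologicalComplex.single_map_f_self]
      simp only [Linear.smul_comp, Linear.comp_smul]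
    · exact (isZero_single_obj_X _ _ _ _ h).eq_of_tgt _ _
  | f :: fs => by
    have hb : (DerCA.locCx (Submonoid.powers f)).map (r • cechMap g fs) =
        r • (DerCA.locCx (Submonoid.powers f)).map (cechMap g fs) := HomologicalComplex.hom_ext _ _ fun k => by
      refine ModuleCat.hom_ext (LinearMap.ext fun x => ?_)
      exact LinearMap.congr_fun (map_smul
        (IsLocalizedModule.map (Submonoid.powers f) (LocalizedModule.mkLinearMap _ ((DerCA.extCech M fs).X k))
          (LocalizedModule.mkLinearMap _ ((DerCA.extCech N fs).X k))) r ((cechMap g fs).f k).hom) x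
    simp only [cechMap, coconeMap, cechMap_smul r g fs, hb]
    refine (congrArg _ ?_).trans (Functor.map_smul (shiftFunctor (DRing.Cx R) (-1 : ℤ)) r _)
    refine HomologicalComplex.hom_ext _ _ fun k => ?_
    simp [CochainComplex.mappingCone.ext_from_iff _ (k + 1) k rfl, CochainComplex.mappingCone.map]

theorem flat_prod (A B : Type u) [AddCommGroup A] [Module R A] [Module.Flat R A] [AddCommGroup B] [Module R B]
    [Module.Flat R B] : Module.Flat R (A × B) := by
  rw [Module.Flat.iff_lTensor_injectiveₛ]
  intro P _ _ Q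
  let e := TensorProduct.prodLeft R R A B Q
  let e' := TensorProduct.prodLeft R R A B P
  have h : ∀ z, e' (Q.subtype.lTensor (A × B) z) =
      Prod.map (Q.subtype.lTensor A) (Q.subtype.lTensor B) (e z) := by
    intro z
    induction z using TensorProduct.induction_on with
    | zero => simp [Prod.map, Prod.ext_iff]
    | tmul m q => obtain ⟨a, b⟩ := m; simp [e, e']
    | add a b ha hb => simp [map_add, ha, hb, Prod.map]
  intro a b hab
  refine e.injective ?_
  have := congr_arg e' hab
  rw [h, h] at this
  exact (Function.Injective.prodMap (Module.Flat.lTensor_preserves_injective_linearMap _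
    Q.subtype_injective) (Module.Flat.lTensor_preserves_injective_linearMap _
      Q.subtype_injective)) this

theorem flat_cech : ∀ (fs : List R) (n : ℤ), Module.Flat R ((DerCA.extCech (ModuleCat.of R R) fs).X n)
  | [], n => by
    by_cases h : n = 0
    · subst h
      exact Module.Flat.of_linearEquiv (singleObjXSelf (ComplexShape.up ℤ) 0 (ModuleCat.of R R)).toLinearEquiv
    · haveI := ModuleCat.subsingleton_of_isZero
        (isZero_single_obj_X (ComplexShape.up ℤ) 0 (ModuleCat.of R R) n h)
      haveI : Module.Free R ((DerCA.extCech (ModuleCat.of R R) []).X n) :=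
        @Module.Free.of_subsingleton R _ _ _ _ this
      exact Module.Flat.of_free
  | f :: fs, n => by
    haveI := flat_cech fs n
    haveI := flat_cech fs (n - 1)
    let K := DerCA.extCech (ModuleCat.of R R) fs
    haveI : Module.Flat R (LocalizedModule (Submonoid.powers f) (K.X (n - 1))) :=
      Module.Flat.of_linearEquiv
        ((LocalizedModule.equivTensorProduct (Submonoid.powers f) (K.X (n - 1))).restrictScalars R)
    haveI : Module.Flat R ((K.X n) × LocalizedModule (Submonoid.powers f) (K.X (n - 1))) := flat_prod _ _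
    exact Module.Flat.of_linearEquiv (DerCA.mappingCoconeXIso (DerCA.locCxUnit (Submonoid.powers f) K) n ≪≫
      ModuleCat.biprodIsoProd (K.X n) (ModuleCat.of R (LocalizedModule (Submonoid.powers f) (K.X (n - 1))))).toLinearEquiv

theorem isZero_cech_X (M : ModuleCat.{u} R) :
    ∀ (fs : List R) (n : ℤ), (fs.length : ℤ) < n → IsZero ((DerCA.extCech M fs).X n)
  | [], n, hn => isZero_single_obj_X (ComplexShape.up ℤ) 0 M n (by simp at hn; omega)
  | f :: fs, n, hn => by
    simp only [List.length_cons, Nat.cast_add, Nat.cast_one] at hn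
    refine IsZero.of_iso ?_ (DerCA.mappingCoconeXIso (DerCA.locCxUnit (Submonoid.powers f) (DerCA.extCech M fs)) n)
    exact (biprod_isZero_iff _ _).2 ⟨isZero_cech_X M fs n (by omega),
      (DerCA.locFunctor (Submonoid.powers f)).map_isZero (isZero_cech_X M fs (n - 1) (by omega))⟩

theorem isKFlat_cech (fs : List R) : DRing.IsKFlat R (DerCA.extCech (ModuleCat.of R R) fs) :=
  KFlatLib.isKFlat_of_bounded_flat _ (fs.length : ℤ) (fun i hi => isZero_cech_X _ fs i hi) (flat_cech fs)

variable (fs : List R) (n : ℤ)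

/-- The element as a map out of the ring. -/
abbrev spanMap {M : ModuleCat.{u} R} (m : M) : ModuleCat.of R R ⟶ M :=
  ModuleCat.ofHom (LinearMap.toSpanSingleton R M m)

/-- `M ⊗ C^n(R) → C^n(M)`. -/
def θ (M : ModuleCat.{u} R) :
    M ⊗[R] (DerCA.extCech (ModuleCat.of R R) fs).X n →ₗ[R] (DerCA.extCech M fs).X n :=
  TensorProduct.lift
    { toFun := fun m => ((cechMap (spanMap m) fs).f n).hom
      map_add' := fun a b => by
        rw [show spanMap (a + b) = spanMap a + spanMap b from
          ModuleCat.hom_ext (LinearMap.ext_ring (by simp)), cechMap_add]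
        rfl
      map_smul' := fun r a => by
        rw [show spanMap (r • a) = r • spanMap a from ModuleCat.hom_ext (LinearMap.ext_ring (by simp)), cechMap_smul]
        rfl }

theorem θ_tmul (M : ModuleCat.{u} R) (m : M) (x : (DerCA.extCech (ModuleCat.of R R) fs).X n) :
    θ fs n M (m ⊗ₜ x) = ((cechMap (spanMap m) fs).f n).hom x := rfl

theorem θ_natural {M N : ModuleCat.{u} R} (g : M ⟶ N) (z : M ⊗[R] (DerCA.extCech (ModuleCat.of R R) fs).X n) :
    θ fs n N (LinearMap.rTensor _ g.hom z) = ((cechMap g fs).f n).hom (θ fs n M z) := by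
  induction z using TensorProduct.induction_on with
  | zero => simp
  | add a b ha hb => simp only [map_add, ha, hb]
  | tmul m x =>
    rw [LinearMap.rTensor_tmul, θ_tmul, θ_tmul, show spanMap (g.hom m) = spanMap m ≫ g from
      ModuleCat.hom_ext (LinearMap.ext_ring (by simp)), cechMap_comp]
    rfl

theorem θ_ring_tmul (x : (DerCA.extCech (ModuleCat.of R R) fs).X n) :
    θ fs n (ModuleCat.of R R) ((1 : R) ⊗ₜ x) = x := by
  rw [θ_tmul, show spanMap ((1 : R) : ModuleCat.of R R) = 𝟙 _ from ModuleCat.hom_ext (LinearMap.ext_ring (by simp)),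
    cechMap_id]
  rfl

theorem θ_ring_bijective : Function.Bijective (θ fs n (ModuleCat.of R R)) := by
  refine ⟨fun z z' h => ?_, fun x => ⟨_, θ_ring_tmul fs n x⟩⟩
  obtain ⟨a, rfl⟩ := (TensorProduct.lid R _).symm.surjective z
  obtain ⟨b, rfl⟩ := (TensorProduct.lid R _).symm.surjective z'
  rw [TensorProduct.lid_symm_apply, TensorProduct.lid_symm_apply, θ_ring_tmul, θ_ring_tmul] at h
  rw [h]

theorem θ_free_bijective (k : ℕ) : Function.Bijective (θ fs n (ModuleCat.of R (Fin k → R))) := by
  classical
  let F := ModuleCat.of R (Fin k → R)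
  let s : Fin k → (ModuleCat.of R R ⟶ F) := fun j => ModuleCat.ofHom (LinearMap.single R (fun _ => R) j)
  let p : Fin k → (F ⟶ ModuleCat.of R R) := fun j => ModuleCat.ofHom (LinearMap.proj j)
  have h1 : 𝟙 F = ∑ j, p j ≫ s j :=
    ModuleCat.hom_ext (LinearMap.ext fun (x : Fin k → R) => by
      funext i
      simp only [s, p, ModuleCat.hom_sum, ModuleCat.hom_id, ModuleCat.hom_comp, ModuleCat.hom_ofHom, LinearMap.sum_apply,
        LinearMap.id_coe, id_eq, LinearMap.comp_apply]
      exact (congrFun (Finset.univ_sum_single x) i).symm)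
  refine ⟨(injective_iff_map_eq_zero _).2 fun z hz => ?_, fun y => ?_⟩
  · have h2 := congrArg (fun φ : F ⟶ F => LinearMap.rTensor ((DerCA.extCech (ModuleCat.of R R) fs).X n) φ.hom z) h1
    simp only [ModuleCat.hom_sum, ModuleCat.hom_id, LinearMap.rTensor_id, LinearMap.id_coe, id_eq] at h2
    rw [h2, map_sum (LinearMap.rTensorHom _) _ Finset.univ |>.trans rfl |> (fun e => show LinearMap.rTensor _ _ = _ from e),
      LinearMap.sum_apply]
    refine Finset.sum_eq_zero fun j _ => ?_
    show LinearMap.rTensor _ ((s j).hom ∘ₗ (p j).hom) z = 0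
    rw [LinearMap.rTensor_comp, LinearMap.comp_apply,
      (θ_ring_bijective fs n).1 (a₁ := LinearMap.rTensor _ (p j).hom z) (a₂ := 0)
        (by rw [θ_natural, hz, map_zero, map_zero]), map_zero]
  · have h2 : (cechMap (𝟙 F) fs).f n = ∑ j, (cechMap (p j ≫ s j) fs).f n := by
      rw [h1]
      exact map_sum (AddMonoidHom.mk' (fun g : F ⟶ F => (cechMap g fs).f n)
        fun a b => by rw [cechMap_add]; rfl) _ _
    choose z hz using fun j => (θ_ring_bijective fs n).2 (((cechMap (p j) fs).f n).hom y)
    refine ⟨∑ j, LinearMap.rTensor _ (s j).hom (z j), ?_⟩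
    have h3 : y = (∑ j, (cechMap (p j ≫ s j) fs).f n).hom y := by
      rw [← h2, cechMap_id]
      rfl
    rw [h3, map_sum, ModuleCat.hom_sum, LinearMap.sum_apply]
    refine Finset.sum_congr rfl fun j _ => ?_
    rw [θ_natural, hz, cechMap_comp]
    rfl

theorem θ_bijective [IsNoetherianRing R] (M : ModuleCat.{u} R) [Module.Finite R M] :
    Function.Bijective (θ fs n M) := by
  obtain ⟨k, π, hπ⟩ := Module.Finite.exists_fin' R M
  obtain ⟨l, ρ, hρ⟩ := Module.Finite.exists_fin' R (LinearMap.ker π)
  let T : ShortComplex (ModuleCat.{u} R) := ShortComplex.mk (ModuleCat.ofHom (LinearMap.ker π).subtype)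
    (ModuleCat.ofHom π : ModuleCat.of R (Fin k → R) ⟶ M)
    (ModuleCat.hom_ext (LinearMap.ext fun x => x.2))
  have hT : T.ShortExact :=
    { exact := (ShortComplex.moduleCat_exact_iff_range_eq_ker T).2 (Submodule.range_subtype _)
      mono_f := (ModuleCat.mono_iff_injective _).2 Subtype.val_injective
      epi_g := (ModuleCat.epi_iff_surjective _).2 hπ }
  have hX := (shortExact_cech hT fs).map_of_exact (HomologicalComplex.eval _ _ n)
  let X₀ := (DerCA.extCech (ModuleCat.of R R) fs).X n
  have hK : Function.Surjective (θ fs n (ModuleCat.of R (LinearMap.ker π))) := by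
    have hs := shortExact_cech (R := R) (T := ShortComplex.mk (ModuleCat.ofHom (LinearMap.ker ρ).subtype)
      (ModuleCat.ofHom ρ : ModuleCat.of R (Fin l → R) ⟶ ModuleCat.of R (LinearMap.ker π))
      (ModuleCat.hom_ext (LinearMap.ext fun x => x.2)))
      { exact := (ShortComplex.moduleCat_exact_iff_range_eq_ker _).2 (Submodule.range_subtype _)
        mono_f := (ModuleCat.mono_iff_injective _).2 Subtype.val_injective
        epi_g := (ModuleCat.epi_iff_surjective _).2 hρ } fs
    intro y
    obtain ⟨y', hy'⟩ := (ModuleCat.epi_iff_surjective _).1 (hs.map_of_exact (HomologicalComplex.eval _ _ n)).epi_g y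
    obtain ⟨z, hz⟩ := (θ_free_bijective fs n l).2 y'
    exact ⟨LinearMap.rTensor X₀ ρ z, (θ_natural fs n
      (ModuleCat.ofHom ρ : ModuleCat.of R (Fin l → R) ⟶ ModuleCat.of R (LinearMap.ker π)) z).trans
      ((congrArg _ hz).trans hy')⟩
  refine ⟨(injective_iff_map_eq_zero _).2 fun z hz => ?_, fun y => ?_⟩
  · obtain ⟨w, rfl⟩ := LinearMap.rTensor_surjective X₀ hπ z
    have h0 : ((cechMap T.g fs).f n).hom (θ fs n (ModuleCat.of R (Fin k → R)) w) = 0 :=
      (θ_natural fs n T.g w).symm.trans hz
    obtain ⟨v, hv⟩ := (ShortComplex.moduleCat_exact_iff _).1 hX.exact _ h0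
    obtain ⟨v', rfl⟩ := hK v
    have : w = LinearMap.rTensor X₀ (LinearMap.ker π).subtype v' :=
      (θ_free_bijective fs n k).1 (hv.symm.trans (θ_natural fs n T.f v').symm)
    rw [this, ← LinearMap.comp_apply, ← LinearMap.rTensor_comp,
      show π ∘ₗ (LinearMap.ker π).subtype = 0 from LinearMap.ext fun x => x.2, LinearMap.rTensor_zero,
      LinearMap.zero_apply]
  · obtain ⟨y', hy'⟩ := (ModuleCat.epi_iff_surjective _).1 hX.epi_g y
    obtain ⟨z, hz⟩ := (θ_free_bijective fs n k).2 y'
    exact ⟨LinearMap.rTensor X₀ π z, (θ_natural fs n T.g z).trans ((congrArg _ hz).trans hy')⟩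

/-- The comparison in one degree. -/
def cxComp [IsNoetherianRing R] (M : ModuleCat.{u} R) [Module.Finite R M] :
    (KFlatLib.tT ((single (ModuleCat.{u} R) (ComplexShape.up ℤ) 0).obj M)
      (DerCA.extCech (ModuleCat.of R R) fs)).X n ≅ (DerCA.extCech M fs).X n :=
  haveI := DTenLib.ProKoszul.isIso_ιT_single M (DerCA.extCech (ModuleCat.of R R) fs) n
  (asIso (KFlatLib.ιT ((single (ModuleCat.{u} R) (ComplexShape.up ℤ) 0).obj M)
      (DerCA.extCech (ModuleCat.of R R) fs) 0 n n (zero_add n))).symm ≪≫
    whiskerRightIso (singleObjXSelf (ComplexShape.up ℤ) 0 M) _ ≪≫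
    (LinearEquiv.ofBijective (θ fs n M) (θ_bijective fs n M)).toModuleIso

theorem ιT_cxComp [IsNoetherianRing R] (M : ModuleCat.{u} R) [Module.Finite R M] :
    KFlatLib.ιT ((single (ModuleCat.{u} R) (ComplexShape.up ℤ) 0).obj M)
      (DerCA.extCech (ModuleCat.of R R) fs) 0 n n (zero_add n) ≫ (cxComp fs n M).hom =
    (singleObjXSelf (ComplexShape.up ℤ) 0 M).hom ▷ _ ≫ ModuleCat.ofHom (θ fs n M) := by
  haveI := DTenLib.ProKoszul.isIso_ιT_single M (DerCA.extCech (ModuleCat.of R R) fs) n
  exact (asIso (KFlatLib.ιT ((single (ModuleCat.{u} R) (ComplexShape.up ℤ) 0).obj M)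
      (DerCA.extCech (ModuleCat.of R R) fs) 0 n n (zero_add n))).hom_inv_id_assoc _

/-- `M[0] ⊗ C(R) ≅ C(M)`. -/
def cxIso [IsNoetherianRing R] (M : ModuleCat.{u} R) [Module.Finite R M] :
    KFlatLib.tT ((single (ModuleCat.{u} R) (ComplexShape.up ℤ) 0).obj M)
      (DerCA.extCech (ModuleCat.of R R) fs) ≅ DerCA.extCech M fs :=
  HomologicalComplex.Hom.isoOfComponents (fun n => cxComp fs n M) fun i j hij => by
    obtain rfl : i + 1 = j := hij
    haveI := DTenLib.ProKoszul.isIso_ιT_single M (DerCA.extCech (ModuleCat.of R R) fs) i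
    rw [← cancel_epi (KFlatLib.ιT ((single (ModuleCat.{u} R) (ComplexShape.up ℤ) 0).obj M)
      (DerCA.extCech (ModuleCat.of R R) fs) 0 i i (zero_add i)), ← Category.assoc, ← Category.assoc, ιT_cxComp,
      KFlatLib.ιT_d (h := zero_add i) (hn := rfl), single_obj_d, Int.negOnePow_zero, one_smul, Preadditive.add_comp,
      Category.assoc]
    simp only [MonoidalPreadditive.zero_whiskerRight, zero_comp, zero_add, Category.assoc]
    rw [ιT_cxComp]
    rw [whisker_exchange_assoc]
    refine congrArg (_ ≫ ·) (ModuleCat.hom_ext (TensorProduct.ext' fun m x => ?_))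
    exact LinearMap.congr_fun (congrArg ModuleCat.Hom.hom ((cechMap (spanMap m) fs).comm i (i + 1))) x

attribute [local instance] HasDerivedCategory.standard

open DTen in
theorem nonempty_cech_tensor [IsNoetherianRing R] [HasLTen R] [HasLTen₃ R] [IsSymMonoidal R]
    (M : Type u) [AddCommGroup M] [Module R M] [Module.Finite R M] :
    Nonempty ((LTen₂ R).obj (DerivedCategory.Q.obj (DerCA.extCech (ModuleCat.of R R) fs), Dual.inD R M) ≅
      DerivedCategory.Q.obj (DerCA.extCech (ModuleCat.of R M) fs)) := by
  let S := (single (ModuleCat.{u} R) (ComplexShape.up ℤ) 0).obj (ModuleCat.of R M)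
  have hε := DTenLib.isIso_ε (A := R) S (DerCA.extCech (ModuleCat.of R R) fs) (Or.inr (isKFlat_cech fs))
  exact ⟨braiding (Dual.inD R M) _ ≪≫
    (LTen₂ R).mapIso (Iso.prod ((DerivedCategory.singleFunctorIsoCompQ (ModuleCat.{u} R) 0).app (ModuleCat.of R M))
      (Iso.refl _)) ≪≫
    @asIso _ _ _ _ ((ε R).app (S, DerCA.extCech (ModuleCat.of R R) fs)) hε ≪≫
    DerivedCategory.Q.mapIso (cxIso fs (ModuleCat.of R M))⟩

end FalLib
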