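import Groth.Agent.CatLib.CM
import Groth.Agent.CommAlgDim.Regular
import Groth.Prelude.Def_SGA2
import Mathlib.RingTheory.Spectrum.Prime.Noetherian

/-!
# Codimension inside a quotient of a regular ring
-/

set_option autoImplicit false
set_option linter.style.haveILetI false
set_option linter.unusedSectionVars false

universe u

noncomputable section

namespace FalLib

/-- The height as a natural number. -/
abbrev ht {R : Type u} [CommRing R] (P : PrimeSpectrum R) : ℕ := P.asIdeal.height.toNat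

section Regular

variable {R : Type u} [CommRing R] [IsNoetherianRing R]

theorem coe_ht (P : PrimeSpectrum R) : (ht P : ℕ∞) = P.asIdeal.height :=
  ENat.coe_toNat (Ideal.height_ne_top P.2.ne_top)

theorem ht_lt {P Q : PrimeSpectrum R} (h : P < Q) : ht P < ht Q := by
  have := Ideal.height_strict_mono_of_isPrime (I := P.asIdeal) (J := Q.asIdeal) h
  rw [← coe_ht P, ← coe_ht Q] at this
  exact_mod_cast this

theorem ht_le {P Q : PrimeSpectrum R} (h : P ≤ Q) : ht P ≤ ht Q := by
  rcases h.eq_or_lt with rfl | h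
  · exact le_rfl
  · exact (ht_lt h).le

theorem ht_covBy [IsRegularRing R] {P Q : PrimeSpectrum R} (h : P ⋖ Q) : ht Q = ht P + 1 := by
  have hcat := CatLib.isCatenary_of_isCMRing (CatLib.isCMRing_of_isRegularRing (R := R))
  let T := Localization.AtPrime Q.asIdeal
  haveI : IsRegularLocalRing T := inferInstance
  haveI : IsDomain T := CommAlgDim.isDomain_of_isRegularLocalRing T
  haveI : IsNoetherianRing T := inferInstance
  let e := CatLib.locEmb Q.asIdeal.primeCompl T
  have hmem : ∀ x : PrimeSpectrum R, x ≤ Q → x ∈ Set.range e := fun x hx => by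
    rw [CatLib.range_locEmb]
    exact Set.disjoint_left.2 fun a ha hax => ha (hx hax)
  obtain ⟨P', hP'⟩ := hmem P h.le
  obtain ⟨Q', hQ'⟩ := hmem Q le_rfl
  have h' : P' ⋖ Q' := CovBy.of_image e (by rw [hP', hQ']; exact h)
  have := CatLib.isCatenary_height_covBy (CatLib.isCatenary_localization Q.asIdeal.primeCompl T hcat) h'
  rw [← IsLocalization.height_under Q.asIdeal.primeCompl Q'.asIdeal,
    ← IsLocalization.height_under Q.asIdeal.primeCompl P'.asIdeal] at this
  rw [show Q'.asIdeal.under R = Q.asIdeal from congrArg PrimeSpectrum.asIdeal hQ',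
    show P'.asIdeal.under R = P.asIdeal from congrArg PrimeSpectrum.asIdeal hP', ← coe_ht Q, ← coe_ht P] at this
  exact_mod_cast this

theorem height_Ici [IsRegularRing R] {P Q : PrimeSpectrum R} (h : P ≤ Q) :
    Order.height (⟨Q, h⟩ : Set.Ici P) = ((ht Q - ht P : ℕ) : ℕ∞) := by
  refine le_antisymm (Order.height_le fun s hs => ?_) ?_
  · suffices ∀ (j : ℕ) (hj : j < s.length + 1), ht P + j ≤ ht (s ⟨j, hj⟩).1 by
      have h1 := this s.length (Nat.lt_succ_self _)
      rw [show s ⟨s.length, _⟩ = s.last from rfl, hs] at h1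
      change ht P + s.length ≤ ht Q at h1
      exact_mod_cast (show s.length ≤ ht Q - ht P by omega)
    intro j
    induction j with
    | zero => intro hj; exact ht_le (s ⟨0, hj⟩).2
    | succ j ih =>
      intro hj
      have h2 : ht (s ⟨j, by omega⟩).1 < ht (s ⟨j + 1, hj⟩).1 := ht_lt (s.step ⟨j, by omega⟩)
      have := ih (by omega)
      omega
  · obtain ⟨s, h1, h2, hsat, -⟩ := CatLib.exists_saturated h (CatLib.bounded_of_height CatLib.height_ne_top P Q)
    have hlen : ∀ (j : ℕ) (hj : j < s.length + 1), ht (s ⟨j, hj⟩) = ht P + j := by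
      intro j
      induction j with
      | zero => intro hj; rw [← h1]; rfl
      | succ j ih =>
        intro hj
        have := ht_covBy (hsat ⟨j, by omega⟩)
        change ht (s ⟨j + 1, hj⟩) = ht (s ⟨j, by omega⟩) + 1 at this
        rw [this, ih (by omega)]
        omega
    have hQ := hlen s.length (Nat.lt_succ_self _)
    rw [show s ⟨s.length, _⟩ = s.last from rfl, h2] at hQ
    let t : LTSeries (Set.Ici P) := ⟨s.length, fun i => ⟨s i, (le_of_eq h1.symm).trans (s.head_le i)⟩, fun i => s.step i⟩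
    refine le_trans ?_ (Order.length_le_height (p := t) (x := ⟨Q, h⟩) (le_of_eq (Subtype.ext h2)))
    show ((ht Q - ht P : ℕ) : ℕ∞) ≤ (s.length : ℕ∞)
    exact_mod_cast (show ht Q - ht P ≤ s.length by omega)

end Regular

section Quotient

variable {R A : Type u} [CommRing R] [IsRegularRing R] [CommRing A] [Algebra R A]

/-- The height of the image in the regular ring. -/
abbrev rht (R : Type u) [CommRing R] {A : Type u} [CommRing A] [Algebra R A] (p : PrimeSpectrum A) : ℕ :=
  ht (PrimeSpectrum.comap (algebraMap R A) p)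

theorem rht_le {p q : PrimeSpectrum A} (h : p ≤ q) : rht R p ≤ rht R q := ht_le (Ideal.comap_mono h)

variable (hs : Function.Surjective (algebraMap R A))
include hs

theorem comap_le_iff {p q : PrimeSpectrum A} :
    PrimeSpectrum.comap (algebraMap R A) p ≤ PrimeSpectrum.comap (algebraMap R A) q ↔ p ≤ q := by
  refine ⟨fun h x hx => ?_, fun h => Ideal.comap_mono h⟩
  obtain ⟨r, rfl⟩ := hs x
  exact h hx

theorem rht_lt {p q : PrimeSpectrum A} (h : p < q) : rht R p < rht R q :=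
  ht_lt (lt_iff_le_not_ge.2 ⟨Ideal.comap_mono h.le, fun h' => h.not_ge ((comap_le_iff hs).1 h')⟩)

/-- The upper sets of a prime above and below. -/
def iciIso (p : PrimeSpectrum A) : Set.Ici p ≃o Set.Ici (PrimeSpectrum.comap (algebraMap R A) p) :=
  RelIso.ofSurjective (OrderEmbedding.ofMapLEIff
      (fun q => ⟨PrimeSpectrum.comap (algebraMap R A) q.1, Ideal.comap_mono q.2⟩) fun _ _ => comap_le_iff hs) <| by
    intro Q
    obtain ⟨q, hq⟩ : Q.1 ∈ Set.range (PrimeSpectrum.comap (algebraMap R A)) := by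
      rw [range_comap_of_surjective _ _ hs, PrimeSpectrum.mem_zeroLocus]
      intro x hx
      refine Q.2 ?_
      show algebraMap R A x ∈ p.asIdeal
      rw [RingHom.mem_ker.1 hx]
      exact zero_mem _
    exact ⟨⟨q, (comap_le_iff hs).1 (hq.symm ▸ Q.2)⟩, Subtype.ext hq⟩

theorem height_rht {p q : PrimeSpectrum A} (h : p ≤ q) :
    Order.height (⟨q, h⟩ : Set.Ici p) = ((rht R q - rht R p : ℕ) : ℕ∞) := by
  rw [← Order.height_orderIso (iciIso hs p) ⟨q, h⟩]
  exact height_Ici (Ideal.comap_mono h : PrimeSpectrum.comap (algebraMap R A) p ≤ PrimeSpectrum.comap (algebraMap R A) q)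

theorem rht_covBy {p q : PrimeSpectrum A} (h : p ⋖ q) : rht R q = rht R p + 1 := by
  refine ht_covBy ⟨lt_iff_le_not_ge.2 ⟨Ideal.comap_mono h.le, fun h' => h.1.not_ge ((comap_le_iff hs).1 h')⟩,
    fun Q hpQ hQq => ?_⟩
  obtain ⟨x, hx⟩ := (iciIso hs p).surjective ⟨Q, hpQ.le⟩
  have hxQ : PrimeSpectrum.comap (algebraMap R A) x.1 = Q := congrArg Subtype.val hx
  rw [← hxQ] at hpQ hQq
  exact h.2 (lt_iff_le_not_ge.2 ⟨x.2, fun h' => hpQ.not_ge (Ideal.comap_mono h')⟩)
    (lt_iff_le_not_ge.2 ⟨(comap_le_iff hs).1 hQq.le, fun h' => hQq.not_ge (Ideal.comap_mono h')⟩)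

theorem exists_attains {I : Ideal A} {p : PrimeSpectrum A} {c : ℕ} (h : SGA2.relCodim I p = c) :
    (∃ q : PrimeSpectrum A, p ≤ q ∧ I ≤ q.asIdeal ∧ rht R q = rht R p + c) ∧
      ∀ q : PrimeSpectrum A, p ≤ q → I ≤ q.asIdeal → rht R p + c ≤ rht R q := by
  have hle : ∀ (q : PrimeSpectrum A) (hpq : p ≤ q), I ≤ q.asIdeal → c ≤ rht R q - rht R p := fun q hpq hI => by
    have : SGA2.relCodim I p ≤ Order.height (⟨q, hpq⟩ : Set.Ici p) :=
      iInf_le (fun q : {q : PrimeSpectrum A // p ≤ q ∧ I ≤ q.asIdeal} => Order.height (⟨q.1, q.2.1⟩ : Set.Ici p))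
        ⟨q, hpq, hI⟩
    rw [h, height_rht hs hpq] at this
    exact_mod_cast this
  refine ⟨?_, fun q hpq hI => by have := hle q hpq hI; have := rht_le (R := R) hpq; omega⟩
  by_contra hno
  push Not at hno
  have : ((c + 1 : ℕ) : ℕ∞) ≤ SGA2.relCodim I p := le_iInf fun q => by
    rw [height_rht hs q.2.1]
    have h1 := hle q.1 q.2.1 q.2.2
    have h2 := hno q.1 q.2.1 q.2.2
    have := rht_le (R := R) q.2.1
    exact_mod_cast (show c + 1 ≤ rht R q.1 - rht R p by omega)
  rw [h] at this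
  exact absurd (ENat.natCast_le_natCast.1 this) (by omega)

theorem relCodim_eq_one {I : Ideal A} {p q : PrimeSpectrum A} (h : p ⋖ q) (hp : ¬ I ≤ p.asIdeal)
    (hq : I ≤ q.asIdeal) : SGA2.relCodim I p = 1 := by
  refine le_antisymm ((iInf_le _ ⟨q, h.le, hq⟩).trans ?_) (le_iInf fun x => ?_)
  · rw [height_rht hs h.le, rht_covBy hs h]
    exact_mod_cast (show rht R p + 1 - rht R p ≤ 1 by omega)
  · rw [height_rht hs x.2.1]
    have : p < x.1 := lt_of_le_of_ne x.2.1 fun e => hp (e ▸ x.2.2)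
    have := rht_lt (R := R) hs this
    exact_mod_cast (show 1 ≤ rht R x.1 - rht R p by omega)

end Quotient

/-- Below `q` there is a prime covered by `q` above `p` not containing `I`. -/
theorem exists_covBy_not_containing {A : Type u} [CommRing A] [IsNoetherianRing A] {I : Ideal A}
    {p q : PrimeSpectrum A} (hpq : p ≤ q) (hp : ¬ I ≤ p.asIdeal) (hq : I ≤ q.asIdeal) :
    ∃ x : PrimeSpectrum A, p ≤ x ∧ ¬ I ≤ x.asIdeal ∧ x ⋖ q := by
  obtain ⟨f, hfI, hfp⟩ := SetLike.not_le_iff_exists.1 hp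
  obtain ⟨y, ⟨hy, hyp, hyq, hyf⟩, hmax⟩ := set_has_maximal_iff_noetherian.mpr ‹IsNoetherianRing A›
    {y : Ideal A | y.IsPrime ∧ p.asIdeal ≤ y ∧ y ≤ q.asIdeal ∧ f ∉ y} ⟨p.asIdeal, p.2, le_rfl, hpq, hfp⟩
  refine ⟨⟨y, hy⟩, hyp, fun h => hyf (h hfI), lt_of_le_of_ne hyq (fun e => ?_), fun x hyx hxq => ?_⟩
  · have e' : y = q.asIdeal := congrArg PrimeSpectrum.asIdeal e
    exact hyf (by rw [e']; exact hq hfI)
  let mk := Ideal.Quotient.mk y
  haveI := hy
  haveI : IsDomain (A ⧸ y) := Ideal.Quotient.isDomain y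
  let up : ∀ z : PrimeSpectrum A, y ≤ z.asIdeal → PrimeSpectrum (A ⧸ y) := fun z hz =>
    ⟨z.asIdeal.map mk, Ideal.map_isPrime_of_surjective Ideal.Quotient.mk_surjective (by rwa [Ideal.mk_ker])⟩
  have hup : ∀ (z : PrimeSpectrum A) (hz : y ≤ z.asIdeal), (up z hz).asIdeal.comap mk = z.asIdeal := fun z hz => by
    show (z.asIdeal.map mk).comap mk = _
    rw [Ideal.comap_map_of_surjective _ Ideal.Quotient.mk_surjective, ← RingHom.ker_eq_comap_bot, Ideal.mk_ker,
      sup_eq_left.2 hz]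
  have hbot : (⊥ : Ideal (A ⧸ y)).IsPrime := Ideal.isPrime_bot
  let xb := up x hyx.le
  let qb := up q hyq
  have hxq' : xb < qb := lt_iff_le_not_ge.2 ⟨Ideal.map_mono hxq.le, fun h => hxq.not_ge fun a ha => by
    rw [← hup x hyx.le]; rw [← hup q hyq] at ha; exact h ha⟩
  have hxb : (⊥ : Ideal (A ⧸ y)) < xb.asIdeal := lt_of_le_of_ne bot_le fun e => hyx.not_ge fun a ha => by
    show a ∈ y
    rw [← hup x hyx.le, Ideal.mem_comap, ← e] at ha
    exact Ideal.Quotient.eq_zero_iff_mem.1 ha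
  have hall : ∀ z : Ideal (A ⧸ y), z.IsPrime → z ≠ ⊥ → z ≤ qb.asIdeal → mk f ∈ z := fun z hz hz0 hzq => by
    by_contra hfz
    refine hmax (z.comap mk) ⟨Ideal.IsPrime.comap mk, hyp.trans (fun a ha => ?_), ?_, hfz⟩ ?_
    · rw [Ideal.mem_comap, Ideal.Quotient.eq_zero_iff_mem.2 ha]; exact zero_mem _
    · rw [← hup q hyq]; exact Ideal.comap_mono hzq
    · refine lt_of_le_of_ne (fun a ha => ?_) fun e => hz0 ?_
      · rw [Ideal.mem_comap, Ideal.Quotient.eq_zero_iff_mem.2 ha]; exact zero_mem _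
      · rw [← Ideal.map_comap_of_surjective mk Ideal.Quotient.mk_surjective z, ← e]
        exact Ideal.map_quotient_self y
  have hq2 : (1 : ℕ∞) < qb.asIdeal.height := by
    haveI := xb.2
    haveI := hbot
    have h1 := Ideal.height_strict_mono_of_isPrime hxb
    have h2 : xb.asIdeal.height < qb.asIdeal.height := Ideal.height_strict_mono_of_isPrime (I := xb.asIdeal) hxq'
    exact lt_of_le_of_lt (Order.one_le_iff_pos.mpr (bot_le.trans_lt h1)) h2
  have hS := Ideal.finite_minimalPrimes_of_isNoetherianRing (A ⧸ y) (Ideal.span {mk f})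
  have hnot : ¬ (qb.asIdeal : Set (A ⧸ y)) ⊆ ⋃ z ∈ (↑hS.toFinset : Set (Ideal (A ⧸ y))), ((id z : Ideal (A ⧸ y)) : Set (A ⧸ y)) := by
    rw [Ideal.subset_union_prime (f := id) ⊥ ⊥ fun z hz _ _ => ((Set.Finite.mem_toFinset hS).1 hz).isPrime]
    rintro ⟨z, hz, hle⟩
    have hz' := (Set.Finite.mem_toFinset hS).1 hz
    haveI := hz'.isPrime
    exact absurd ((Ideal.height_mono hle).trans
      (Ideal.height_le_one_of_isPrincipal_of_mem_minimalPrimes _ z hz')) (not_le.2 hq2)
  simp_rw [Set.not_subset, Set.mem_iUnion, not_exists, Finset.mem_coe, Set.Finite.mem_toFinset] at hnot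
  obtain ⟨g, hgq, hg⟩ := hnot
  haveI := qb.2
  obtain ⟨Q, hQ, hQq⟩ := Ideal.exists_minimalPrimes_le
    (show Ideal.span {g} ≤ qb.asIdeal from Ideal.span_le.2 (Set.singleton_subset_iff.2 hgq))
  haveI := hQ.isPrime
  have hgQ : g ∈ Q := hQ.1.2 (Ideal.mem_span_singleton_self g)
  obtain ⟨z₀, hz₀, -⟩ := Ideal.exists_minimalPrimes_le
    (show Ideal.span {mk f} ≤ qb.asIdeal from
      Ideal.span_le.2 (Set.singleton_subset_iff.2 (Ideal.mem_map_of_mem mk (hq hfI))))
  have hQ0 : Q ≠ ⊥ := fun e => hg z₀ hz₀ (by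
    rw [e, Ideal.mem_bot] at hgQ
    rw [hgQ]
    exact zero_mem _)
  obtain ⟨z, hz, hzQ⟩ := Ideal.exists_minimalPrimes_le
    (show Ideal.span {mk f} ≤ Q from Ideal.span_le.2 (Set.singleton_subset_iff.2 (hall Q inferInstance hQ0 hQq)))
  haveI := hz.isPrime
  have hlt : z < Q := lt_of_le_of_ne hzQ fun e => hg z hz (e ▸ hgQ)
  have hz0 : (⊥ : Ideal (A ⧸ y)) < z := lt_of_le_of_ne bot_le fun e => hyf (Ideal.Quotient.eq_zero_iff_mem.1
    (show mk f ∈ (⊥ : Ideal (A ⧸ y)) from e ▸ hz.1.2 (Ideal.mem_span_singleton_self _)))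
  exact absurd ((Ideal.height_strict_mono_of_isPrime hlt).trans_le
      (Ideal.height_le_one_of_isPrincipal_of_mem_minimalPrimes _ Q hQ))
    (not_lt.2 (Order.one_le_iff_pos.mpr (bot_le.trans_lt (Ideal.height_strict_mono_of_isPrime hz0))))

end FalLib
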