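import Groth.Agent.FalLib.Transfer
import Groth.Agent.FalLib.Chain
import Groth.Agent.LocCohLib.CohDim

/-!
# The stalk condition for finiteness of local cohomology
-/

set_option autoImplicit false
set_option linter.style.haveILetI false
set_option linter.unusedSectionVars false
set_option maxHeartbeats 800000

universe u

open CategoryTheory IsLocalRing LocCohLib
open Groth.Agent Groth.Agent.DualCxLib

attribute [local instance] HasDerivedCategory.standard

noncomputable section

namespace FalLib

variable {R A : Type u} [CommRing R] [IsRegularRing R] [CommRing A] [Algebra R A]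
  (hs : Function.Surjective (algebraMap R A)) (M : Type u) [AddCommGroup M] [Module A M] [Module R M]
  [IsScalarTower R A M] [Module.Finite R M]
include hs

theorem stalk_iff (x : PrimeSpectrum A) (j : ℕ) :
    Subsingleton (LocCoh.H (maximalIdeal (Localization.AtPrime x.asIdeal)) j
        (LocalizedModule x.asIdeal.primeCompl M)) ↔
      ∀ k : ℕ, j + k = rht R x → Van (below (R := R) x).asIdeal (E (ModuleCat.of R M) k) := by
  rw [subsingleton_stalk_iff (R := R) hs x M j]
  let P := below (R := R) x
  have hh : ringKrullDim (Localization.AtPrime P.asIdeal) = rht R x := by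
    rw [IsLocalization.AtPrime.ringKrullDim_eq_height P.asIdeal, ← coe_ht P]
    rfl
  by_cases hj : j ≤ rht R x
  · refine ⟨fun h k hk => (van_iff_stalk P hh k M).2 fun j' hj' => ?_, fun h => ?_⟩
    · obtain rfl : j' = j := by omega
      exact h
    · exact (van_iff_stalk P hh (rht R x - j) M).1 (h _ (by omega)) j (by omega)
  · refine iff_of_true ?_ fun k hk => absurd hk (by omega)
    haveI : IsNoetherianRing (Localization.AtPrime P.asIdeal) := inferInstance
    haveI : Module.Finite (Localization.AtPrime P.asIdeal) (LocalizedModule P.asIdeal.primeCompl M) :=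
      Module.Finite.of_isLocalizedModule P.asIdeal.primeCompl (LocalizedModule.mkLinearMap P.asIdeal.primeCompl M)
    exact subsingleton_H_of_supportDim_lt j _ (lt_of_le_of_lt
      ((Module.supportDim_le_ringKrullDim _ _).trans hh.le) (by exact_mod_cast not_le.1 hj))

variable (I : Ideal A) (i : ℕ)

/-- The codimension one hypothesis gives the vanishing of `Ext` everywhere. -/
theorem good_of_one [IsNoetherianRing A]
    (h : ∀ p : PrimeSpectrum A, ¬ I ≤ p.asIdeal → SGA2.relCodim I p = 1 → ∀ j : ℕ, j + 1 = i →
      Subsingleton (LocCoh.H (maximalIdeal (Localization.AtPrime p.asIdeal)) j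
        (LocalizedModule p.asIdeal.primeCompl M)))
    {r q : PrimeSpectrum A} (hrq : r ≤ q) (hr : ¬ I ≤ r.asIdeal) (hq : I ≤ q.asIdeal) (k : ℕ)
    (hk : rht R q = k + i) : Van (below (R := R) r).asIdeal (E (ModuleCat.of R M) k) := by
  obtain ⟨x, hrx, hx, hxq⟩ := exists_covBy_not_containing hrq hr hq
  refine Van.mono (Ideal.comap_mono hrx : (below (R := R) r).asIdeal ≤ (below (R := R) x).asIdeal) ?_
  have hcov := rht_covBy (R := R) hs hxq
  rcases i with _ | j
  · have hh : ringKrullDim (Localization.AtPrime (below (R := R) x).asIdeal) = rht R x := by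
      rw [IsLocalization.AtPrime.ringKrullDim_eq_height (below (R := R) x).asIdeal, ← coe_ht (below (R := R) x)]
      rfl
    exact (van_iff_stalk _ hh k M).2 fun j hj => absurd hj (by omega)
  · exact (stalk_iff hs M x j).1 (h x hx (relCodim_eq_one hs hxq hx hq) j rfl) k (by omega)

theorem all_of_good
    (h : ∀ r q : PrimeSpectrum A, r ≤ q → ¬ I ≤ r.asIdeal → I ≤ q.asIdeal → ∀ k : ℕ, rht R q = k + i →
      Van (below (R := R) r).asIdeal (E (ModuleCat.of R M) k))
    (p : PrimeSpectrum A) (hp : ¬ I ≤ p.asIdeal) (c j : ℕ) (hc : SGA2.relCodim I p = c) (hj : j + c = i) :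
    Subsingleton (LocCoh.H (maximalIdeal (Localization.AtPrime p.asIdeal)) j
      (LocalizedModule p.asIdeal.primeCompl M)) := by
  obtain ⟨⟨q, hpq, hq, hqc⟩, -⟩ := exists_attains (R := R) hs hc
  exact (stalk_iff hs M p j).2 fun k hk => h p q hpq hp hq k (by omega)

end FalLib
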