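import Groth.Agent.FalLib.Faltings
import Groth.Agent.LocCohLib.FinDim
import Groth.Agent.LocCohLib.Finiteness

/-!
# Depth criteria for the finiteness of local cohomology
-/

set_option autoImplicit false
set_option linter.style.haveILetI false
set_option linter.unusedSectionVars false
set_option maxHeartbeats 1000000

universe u

open IsLocalRing LocCohLib

noncomputable section

namespace FalLib

variable {R A : Type u} [CommRing R] [IsRegularRing R] [CommRing A] [IsNoetherianRing A] [Algebra R A]

theorem covBy_of_rht (hs : Function.Surjective (algebraMap R A)) {p q : PrimeSpectrum A} (h : p ≤ q)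
    (hq : rht R q = rht R p + 1) : p ⋖ q := by
  refine ⟨lt_of_le_of_ne h fun e => by rw [e] at hq; omega, fun x hpx hxq => ?_⟩
  have := rht_lt (R := R) hs hpx
  have := rht_lt (R := R) hs hxq
  omega

theorem lt_depth_add_of_finite (hs : Function.Surjective (algebraMap R A)) (I : Ideal A) (M : Type u) [AddCommGroup M]
    [Module A M] [Module.Finite A M] (n : ℕ) (h : ∀ i : ℕ, i ≤ n → Module.Finite A (LocCoh.H I i M))
    {p q : PrimeSpectrum A} (hp : ¬ I ≤ p.asIdeal) (hpq : p ≤ q) (hq : I ≤ q.asIdeal) :
    (n : ℕ∞) < LocCoh.depth (Localization.AtPrime p.asIdeal) (LocalizedModule p.asIdeal.primeCompl M) +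
      ((rht R q - rht R p : ℕ) : ℕ∞) := by
  have h1 : ((n + 1 : ℕ) : ℕ∞) ≤ LocCoh.finDimRel I I M := le_iInf₂ fun i hi => by
    by_contra hlt
    rw [not_le, ENat.natCast_lt_natCast] at hlt
    haveI := h i (Nat.lt_succ_iff.1 hlt)
    obtain ⟨k, hk⟩ := exists_pow_le_annihilator_of_finite I (M := M) i
    exact hi fun x hx => ⟨k, hk (Ideal.pow_mem_pow hx k)⟩
  have h2 := (h1.trans (finDimRel_le_minAdjDepth I I M)).trans (iInf₂_le p hp)
  refine lt_of_lt_of_le (lt_of_lt_of_le (by exact_mod_cast Nat.lt_succ_self n) h2) (add_le_add le_rfl ?_)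
  exact (Ideal.height_mono (Ideal.map_mono (sup_le hq hpq))).trans (height_map_le (R := R) hs hpq)

theorem finite_below_iff (hs : Function.Surjective (algebraMap R A)) (I : Ideal A) (M : Type u) [AddCommGroup M]
    [Module A M] [Module R M] [IsScalarTower R A M] [Module.Finite A M] [Module.Finite R M] (n : ℕ) :
    (∀ i : ℕ, i ≤ n → Module.Finite A (LocCoh.H I i M)) ↔ ∀ p q : PrimeSpectrum A, ¬ I ≤ p.asIdeal →
      I ≤ q.asIdeal → p ⋖ q →
        (n : ℕ∞) ≤ LocCoh.depth (Localization.AtPrime p.asIdeal) (LocalizedModule p.asIdeal.primeCompl M) := by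
  constructor
  · intro h p q hp hq hpq
    have h1 := lt_depth_add_of_finite (R := R) hs I M n h hp hpq.le hq
    rw [rht_covBy (R := R) hs hpq, Nat.add_sub_cancel_left, Nat.cast_one] at h1
    exact (ENat.lt_add_one_iff' (ENat.natCast_ne_top n)).1 h1
  · intro h i hi
    refine finite_quotient (R := R) hs I M i fun r q hrq hr hq k hk =>
      good_of_one (R := R) hs M I i (fun p hp hc j hj => ?_) hrq hr hq k hk
    obtain ⟨⟨q', hpq', hq', hht⟩, -⟩ := exists_attains (R := R) hs (I := I) (p := p) (c := 1) (by exact_mod_cast hc)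
    haveI : IsNoetherianRing (Localization.AtPrime p.asIdeal) :=
      IsLocalization.isNoetherianRing p.asIdeal.primeCompl _ inferInstance
    haveI : Module.Finite (Localization.AtPrime p.asIdeal) (LocalizedModule p.asIdeal.primeCompl M) :=
      Module.Finite.of_isLocalizedModule p.asIdeal.primeCompl (LocalizedModule.mkLinearMap p.asIdeal.primeCompl M)
    exact (le_idealDepth_iff_subsingleton_H (I := maximalIdeal (Localization.AtPrime p.asIdeal))
      (LocalizedModule p.asIdeal.primeCompl M) n).1 (h p q' hp hq' (covBy_of_rht hs hpq' hht)) j (by omega)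

theorem rht_sub_le_supportDim (hs : Function.Surjective (algebraMap R A)) (M : Type u) [AddCommGroup M] [Module A M]
    [Module.Finite A M] {p₀ p : PrimeSpectrum A} (h0 : p₀ ∈ Module.support A M) (h : p₀ ≤ p) :
    ((rht R p - rht R p₀ : ℕ) : WithBot ℕ∞) ≤
      Module.supportDim (Localization.AtPrime p.asIdeal) (LocalizedModule p.asIdeal.primeCompl M) := by
  let T := Localization.AtPrime p.asIdeal
  let e := CatLib.locEmb p.asIdeal.primeCompl T
  obtain ⟨s, hh, hl, hsat, -⟩ := CatLib.exists_saturated h (CatLib.bounded_of_height CatLib.height_ne_top p₀ p)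
  have hlen : ∀ (j : ℕ) (hj : j < s.length + 1), rht R (s ⟨j, hj⟩) = rht R p₀ + j := by
    intro j
    induction j with
    | zero => intro hj; rw [← hh]; rfl
    | succ j ih =>
      intro hj
      have := rht_covBy (R := R) hs (hsat ⟨j, by omega⟩)
      change rht R (s ⟨j + 1, hj⟩) = rht R (s ⟨j, by omega⟩) + 1 at this
      rw [this, ih (by omega)]
      omega
  have hP := hlen s.length (Nat.lt_succ_self _)
  rw [show s ⟨s.length, _⟩ = s.last from rfl, hl] at hP
  have hex : ∀ j : Fin (s.length + 1), ∃ x : PrimeSpectrum T, e x = s j ∧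
      x ∈ Module.support T (LocalizedModule p.asIdeal.primeCompl M) := fun j => by
    obtain ⟨x, hx⟩ : s j ∈ Set.range e := by
      rw [CatLib.range_locEmb]
      exact Set.disjoint_left.2 fun a ha hax => ha ((hl ▸ s.monotone (Fin.le_last j) : s j ≤ p) hax)
    refine ⟨x, hx, ?_⟩
    haveI : Module.Finite T (LocalizedModule p.asIdeal.primeCompl M) :=
      Module.Finite.of_isLocalizedModule p.asIdeal.primeCompl (LocalizedModule.mkLinearMap p.asIdeal.primeCompl M)
    rw [Module.mem_support_iff_of_finite]
    intro z hz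
    obtain ⟨⟨a, t⟩, rfl⟩ := IsLocalization.mk'_surjective p.asIdeal.primeCompl z
    rw [IsLocalization.mk'_mem_iff]
    show a ∈ (x.asIdeal.comap (algebraMap A T))
    have hxs : x.asIdeal.comap (algebraMap A T) = (s j).asIdeal := congrArg PrimeSpectrum.asIdeal hx
    rw [hxs]
    by_contra hna
    have hmem : ∀ m : M, ∃ c ∈ p.asIdeal.primeCompl, c • (a • m) = 0 := fun m => by
      have h' := Module.mem_annihilator.1 (Ideal.mul_mem_left _ (algebraMap A T t) hz)
        (LocalizedModule.mkLinearMap p.asIdeal.primeCompl M m)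
      rw [IsLocalization.mk'_spec' T a t, algebraMap_smul, ← map_smul] at h'
      obtain ⟨c, hc⟩ := (IsLocalizedModule.eq_zero_iff p.asIdeal.primeCompl _).1 h'
      exact ⟨c, c.2, hc⟩
    have hsupp : s j ∈ Module.support A M :=
      Module.mem_support_mono (hh ▸ s.head_le j : p₀ ≤ s j) h0
    rw [Module.mem_support_iff] at hsupp
    refine not_subsingleton_iff_nontrivial.2 hsupp (LocalizedModule.subsingleton_iff.2 fun m => ?_)
    obtain ⟨c, hc, hcm⟩ := hmem m
    refine ⟨c * a, (s j).asIdeal.primeCompl.mul_mem (fun hcs => hc ?_) hna, by rw [mul_smul]; exact hcm⟩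
    exact (hl ▸ s.monotone (Fin.le_last j) : s j ≤ p) hcs
  choose x hx hxs using hex
  let l : LTSeries (Module.support T (LocalizedModule p.asIdeal.primeCompl M)) :=
    ⟨s.length, fun j => ⟨x j, hxs j⟩, fun j => (e.lt_iff_lt.1 (by rw [hx, hx]; exact s.step j) : x _ < x _)⟩
  refine le_trans ?_ (Order.LTSeries.length_le_krullDim l)
  exact_mod_cast (show rht R p - rht R p₀ ≤ s.length by omega)

theorem finite_below_iff_of_CM (hs : Function.Surjective (algebraMap R A)) (I : Ideal A) (M : Type u) [AddCommGroup M]
    [Module A M] [Module R M] [IsScalarTower R A M] [Module.Finite A M] [Module.Finite R M]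
    (hCM : ∀ p : PrimeSpectrum A, ¬ I ≤ p.asIdeal → Subsingleton (LocalizedModule p.asIdeal.primeCompl M) ∨
      LocCoh.IsCohenMacaulayModule (Localization.AtPrime p.asIdeal) (LocalizedModule p.asIdeal.primeCompl M))
    (n : ℕ) :
    (∀ i : ℕ, i ≤ n → Module.Finite A (LocCoh.H I i M)) ↔ ∀ p : PrimeSpectrum A, ¬ I ≤ p.asIdeal →
      p.asIdeal ∈ (Module.annihilator A M).minimalPrimes → (n : ℕ∞) < SGA2.relCodim I p := by
  constructor
  · intro h p hp hmin
    by_contra hc
    rw [not_lt] at hc
    obtain ⟨c, hc'⟩ := WithTop.ne_top_iff_exists.1 (ne_top_of_le_ne_top (ENat.natCast_ne_top n) hc)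
    obtain ⟨⟨q, hpq, hq, hqc⟩, -⟩ := exists_attains (R := R) hs hc'.symm
    have h1 := lt_depth_add_of_finite (R := R) hs I M n h hp hpq hq
    have hd : LocCoh.depth (Localization.AtPrime p.asIdeal) (LocalizedModule p.asIdeal.primeCompl M) = 0 := by
      rcases hCM p hp with hz | hcm
      · exfalso
        have hmem : p ∈ Module.support A M := Module.mem_support_iff_of_finite.2 hmin.1.2
        rw [Module.mem_support_iff] at hmem
        exact not_subsingleton_iff_nontrivial.2 hmem hz
      · have h0 : Module.supportDim (Localization.AtPrime p.asIdeal) (LocalizedModule p.asIdeal.primeCompl M) ≤ 0 := by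
          refine Order.krullDim_nonpos_iff_forall_isMax.2 fun x y hxy => ?_
          let e := CatLib.locEmb p.asIdeal.primeCompl (Localization.AtPrime p.asIdeal)
          have hle : ∀ z : Module.support (Localization.AtPrime p.asIdeal) (LocalizedModule p.asIdeal.primeCompl M),
              e z.1 = p := fun z => by
            have hzp : e z.1 ≤ p := fun a ha => by
              have h1 : e z.1 ∈ Set.range e := ⟨z.1, rfl⟩
              rw [CatLib.range_locEmb] at h1
              by_contra hna
              exact Set.disjoint_left.1 h1 hna ha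
            refine le_antisymm hzp (hmin.2 ⟨(e z.1).2, fun a ha => ?_⟩ hzp)
            refine Module.annihilator_le_of_mem_support z.2 (Module.mem_annihilator.2 fun w => ?_)
            induction w using LocalizedModule.induction_on with
            | h m t => rw [algebraMap_smul, LocalizedModule.smul'_mk, Module.mem_annihilator.1 ha, LocalizedModule.zero_mk]
          exact e.le_iff_le.1 (show e y.1 ≤ e x.1 from (hle y).trans_le (hle x).ge)
        rw [hcm] at h0
        exact le_antisymm (by exact_mod_cast h0) zero_le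
    rw [hd, zero_add, hqc, Nat.add_sub_cancel_left] at h1
    rw [← hc'] at hc
    exact absurd hc (not_le.2 h1)
  · intro h
    rw [finite_below_iff (R := R) hs I M n]
    intro p q hp hq hpq
    haveI : IsNoetherianRing (Localization.AtPrime p.asIdeal) :=
      IsLocalization.isNoetherianRing p.asIdeal.primeCompl _ inferInstance
    haveI : Module.Finite (Localization.AtPrime p.asIdeal) (LocalizedModule p.asIdeal.primeCompl M) :=
      Module.Finite.of_isLocalizedModule p.asIdeal.primeCompl (LocalizedModule.mkLinearMap p.asIdeal.primeCompl M)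
    by_cases hz : Subsingleton (LocalizedModule p.asIdeal.primeCompl M)
    · exact (le_idealDepth_iff_subsingleton_H (I := maximalIdeal (Localization.AtPrime p.asIdeal))
        (LocalizedModule p.asIdeal.primeCompl M) n).2 fun i _ => subsingleton_H_of_subsingleton _ i
    have hmem : p ∈ Module.support A M := by
      rw [Module.mem_support_iff]; exact not_subsingleton_iff_nontrivial.1 hz
    obtain ⟨P, hP, hPle⟩ := Ideal.exists_minimalPrimes_le (Module.mem_support_iff_of_finite.1 hmem)
    let p₀ : PrimeSpectrum A := ⟨P, hP.1.1⟩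
    have hp₀ : ¬ I ≤ p₀.asIdeal := fun hI => hp (hI.trans hPle)
    have h1 := h p₀ hp₀ hP
    have h2 : SGA2.relCodim I p₀ ≤ ((rht R q - rht R p₀ : ℕ) : ℕ∞) := by
      have hle : p₀ ≤ q := le_trans (show p₀ ≤ p from hPle) hpq.le
      rw [← height_rht hs hle]
      exact iInf_le (fun q : {q : PrimeSpectrum A // p₀ ≤ q ∧ I ≤ q.asIdeal} =>
        Order.height (⟨q.1, q.2.1⟩ : Set.Ici p₀)) ⟨q, hle, hq⟩
    have h3 := rht_sub_le_supportDim (R := R) hs M (p₀ := p₀) (p := p) (Module.mem_support_iff_of_finite.2 hP.1.2) hPle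
    rw [(hCM p hp).resolve_left hz, show ((rht R p - rht R p₀ : ℕ) : WithBot ℕ∞) = (((rht R p - rht R p₀ : ℕ) : ℕ∞) : WithBot ℕ∞) from rfl,
      WithBot.coe_le_coe] at h3
    have h4 : n < rht R q - rht R p₀ := by exact_mod_cast lt_of_lt_of_le h1 h2
    rw [rht_covBy (R := R) hs hpq] at h4
    refine le_trans ?_ h3
    have := rht_le (R := R) (show p₀ ≤ p from hPle)
    exact_mod_cast (show n ≤ rht R p - rht R p₀ by omega)

end FalLib
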