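import Groth.Agent.FalLib.Ext
import Groth.Agent.DualCxLib.Biduality
import Groth.Agent.DTenLib.Eval
import Groth.Agent.DTenLib.BCPerfect
import Groth.Agent.S6962
import Groth.Agent.S5165

/-!
# The dual of a finite module over a regular ring
-/

set_option autoImplicit false
set_option linter.style.haveILetI false
set_option linter.unusedSectionVars false

universe u

open CategoryTheory CategoryTheory.Limits MonoidalCategory DTen
open Groth.Agent Groth.Agent.DualCxLib
open DTenLib.Point (hH sg)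

attribute [local instance] HasDerivedCategory.standard

noncomputable section

namespace FalLib

variable {R : Type u} [CommRing R]

/-- Cohomology as maps out of the shifted ring. -/
def cohEquiv (X : Dual.D R) (i : ℤ) : (sg (ModuleCat.of R R) i ⟶ X) ≃ₗ[R] ((hH R i).obj X) :=
  LinearEquiv.ofBijective (evGen X i) ⟨evGen_injective X i, fun x => by
    obtain ⟨f, hf⟩ := DTenLib.Point.exists_evA_eq i x
    exact ⟨f, hf⟩⟩

variable [HasLTen R] [HasLTen₃ R] [IsSymMonoidal R] [HasRHom R]

/-- Maps out of a shifted ring into a derived `Hom`. -/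
theorem nonempty_coh_rhom (X Y : Dual.D R) (i : ℤ) :
    Nonempty (((hH R i).obj ((RHomR R X).obj Y)) ≃ₗ[R] (X ⟶ Y⟦i⟧)) := by
  obtain ⟨s⟩ := nonempty_unit_shift_iso (A := R) i
  obtain ⟨t⟩ := DTenLib.nonempty_tensor_shiftUnit (A := R) X (-i)
  exact ⟨(((cohEquiv _ i).symm.trans (precompL s.symm _)).trans (homLEquiv _ X Y).symm).trans
    ((precompL t Y).trans (shiftL X Y i))⟩

/-- `RHom(A, Y) ≅ Y`. -/
def unitHomIso (Y : Dual.D R) : (RHomR R (unit R)).obj Y ≅ Y :=
  ((rhomAdj R (unit R)).rightAdjointUniq (Adjunction.id.ofNatIsoLeft (asIso (unitR R)).symm)).app Y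

variable [IsRegularRing R]

/-- The dual of a finite module, with its cohomology and the evaluation isomorphism. -/
theorem exists_dual (M : Type u) [AddCommGroup M] [Module R M] [Module.Finite R M] (Y : Dual.D R) :
    ∃ L : Dual.D R,
      (∀ j : ℤ, Nonempty (((hH R j).obj L) ≃ₗ[R] E (ModuleCat.of R M) j)) ∧
      (∀ j : ℤ, Nonempty (((hH R j).obj ((LTen₂ R).obj (Y, Dual.inD R M))) ≃ₗ[R] (L ⟶ Y⟦j⟧))) := by
  haveI : IsNoetherianRing R := inferInstance
  have hK : DRing.IsPerfect R (Dual.inD R M) :=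
    (Groth.Agent.S6962.result R (fun p => inferInstance) M).2 inferInstance
  obtain ⟨u0⟩ := nonempty_unit_iso (A := R)
  refine ⟨(RHomR R (Dual.inD R M)).obj (unit R), fun j => ?_, fun j => ?_⟩
  · obtain ⟨e⟩ := nonempty_coh_rhom (Dual.inD R M) (unit R) j
    exact ⟨e.trans (postcompL _ ((shiftFunctor (Dual.D R) j).mapIso u0))⟩
  · haveI := DTenLib.isIso_evalHom_of_isPerfect (Dual.inD R M) (unit R) Y hK
    obtain ⟨e⟩ := nonempty_coh_rhom ((RHomR R (Dual.inD R M)).obj (unit R)) Y j
    exact ⟨(((hH R j).mapIso ((tensorRightD R (Dual.inD R M)).mapIso (unitHomIso Y).symm ≪≫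
      asIso (evalHom (Dual.inD R M) (unit R) Y))).toLinearEquiv).trans e⟩

omit [HasLTen R] [HasLTen₃ R] [IsSymMonoidal R] [HasRHom R] in
/-- `Ext` vanishes in large degrees. -/
theorem exists_bound (M : Type u) [AddCommGroup M] [Module R M] [Module.Finite R M] :
    ∃ d : ℕ, ∀ j : ℤ, (j < 0 ∨ (d : ℤ) < j) → Subsingleton (E (ModuleCat.of R M) j) := by
  obtain ⟨d, hd⟩ := Groth.Agent.S5165.result R M
  refine ⟨d, fun j hj => ?_⟩
  rcases hj with h | h
  · exact subsingleton_of_neg _ h
  · obtain ⟨n, rfl⟩ : ∃ n : ℕ, j = ((n + (d + 1) : ℕ) : ℤ) := ⟨(j - (d + 1)).toNat, by omega⟩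
    haveI : Subsingleton (Abelian.Ext (ModuleCat.of R M) (ModuleCat.of R R) (n + (d + 1))) :=
      HasProjectiveDimensionLT.subsingleton (ModuleCat.of R M) (d + 1) _ (by omega) _
    exact (Abelian.Ext.homEquiv (X := ModuleCat.of R M) (Y := ModuleCat.of R R) (n := n + (d + 1))).symm.subsingleton

end FalLib
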