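import Groth.Agent.FalLib.Ext
import Groth.Agent.CanonModLib.Regular

/-!
# Stalk vanishing of local cohomology over a regular ring, in terms of `Ext`
-/

set_option autoImplicit false
set_option linter.style.haveILetI false
set_option linter.unusedSectionVars false
set_option maxHeartbeats 1000000

universe u

open CategoryTheory IsLocalRing LocCohLib
open Groth.Agent Groth.Agent.DualCxLib

attribute [local instance] HasDerivedCategory.standard

noncomputable section

namespace FalLib

/-- The canonical module of a Gorenstein local ring is the ring. -/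
theorem gorenstein_canon (A : Type u) [CommRing A] [LocCoh.IsGorensteinLocalRing A] (n : ℕ) (hn : ringKrullDim A = n)
    (E : Type u) [AddCommGroup E] [Module A E] (f : ResidueField A →ₗ[A] E) (hf : InjHull.IsInjectiveHull f) :
    (∀ q, q < n → Subsingleton (LocCoh.H (maximalIdeal A) q A)) ∧
      Nonempty ((A →ₗ[A] E) ≃ₗ[A] LocCoh.H (maximalIdeal A) n A) := by
  obtain ⟨hv, g, hg⟩ := Groth.Agent.DualCxLib.gorenstein_localCohomology (A := A) n hn
  obtain ⟨e, -⟩ := InjHullLib.hull_unique hf hg
  exact ⟨fun q hq => hv q hq.ne, ⟨(LinearMap.ringLmapEquivSelf A A E).trans e⟩⟩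

instance (priority := 100) isGorensteinLocalRing_of_regular (A : Type u) [CommRing A] [IsRegularLocalRing A] :
    LocCoh.IsGorensteinLocalRing A :=
  gorenstein_of_regular A

instance (priority := 100) isGorensteinRing_of_regular (A : Type u) [CommRing A] [IsRegularRing A] :
    LocCoh.IsGorensteinRing A :=
  { isGorensteinLocalRing_localization := fun P _ =>
      haveI := isRegularRing_iff.1 (inferInstance : IsRegularRing A) P
      gorenstein_of_regular _ }

section Local

variable {A : Type u} [CommRing A] [LocCoh.IsGorensteinLocalRing A] {n : ℕ}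

theorem subsingleton_H_free_of_lt (hn : ringKrullDim A = n) (F : Type u) [AddCommGroup F] [Module A F]
    [Module.Finite A F] [Module.Free A F] {q : ℕ} (hq : q < n) :
    Subsingleton (LocCoh.H (maximalIdeal A) q F) := by
  obtain ⟨E, _, _, f, hf⟩ := InjHullLib.exists_injectiveHull (R := A) (ResidueField A)
  exact CanonModLib.subsingleton_H_free q ((gorenstein_canon A n hn E f hf).1 q hq) F

theorem top_iff_hom (hn : ringKrullDim A = n) (M : Type u) [AddCommGroup M] [Module A M] [Module.Finite A M] :
    Subsingleton (LocCoh.H (maximalIdeal A) n M) ↔ ∀ φ : M →ₗ[A] A, φ = 0 := by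
  obtain ⟨E, _, _, f, hf⟩ := InjHullLib.exists_injectiveHull (R := A) (ResidueField A)
  obtain ⟨-, ⟨eK⟩⟩ := gorenstein_canon A n hn E f hf
  let e := CanonModLib.topDual hn.le hf.isInjective eK M
  constructor
  · intro h φ
    haveI := e.symm.injective.subsingleton
    haveI : Subsingleton (M →ₗ[A] A) := CanonModLib.subsingleton_of_dual hf
    exact Subsingleton.elim _ _
  · intro h
    haveI : Subsingleton (M →ₗ[A] A) := subsingleton_of_forall_eq 0 h
    exact e.injective.subsingleton

variable {N F M : Type u} [AddCommGroup N] [Module A N] [Module.Finite A N] [AddCommGroup F] [Module A F]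
  [Module.Finite A F] [Module.Free A F] [AddCommGroup M] [Module A M] [Module.Finite A M]
  {f : N →ₗ[A] F} {g : F →ₗ[A] M}

/-- One step of dimension shifting at the top. -/
theorem pred_top_iff_extends (hn : ringKrullDim A = n) (hf : Function.Injective f) (hfg : Function.Exact f g)
    (hg : Function.Surjective g) :
    (∀ j, j + 1 = n → Subsingleton (LocCoh.H (maximalIdeal A) j M)) ↔
      ∀ ψ : N →ₗ[A] A, ∃ ζ : F →ₗ[A] A, ψ = ζ ∘ₗ f := by
  obtain ⟨E, _, _, e₀, he⟩ := InjHullLib.exists_injectiveHull (R := A) (ResidueField A)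
  obtain ⟨-, ⟨eK⟩⟩ := gorenstein_canon A n hn E e₀ he
  obtain ⟨e⟩ := CanonModLib.kerEquiv hn.le he.isInjective eK f
  have hker : Subsingleton (LinearMap.ker (CanonModLib.topMap n f)) ↔
      ∀ ψ : N →ₗ[A] A, ∃ ζ : F →ₗ[A] A, ψ = ζ ∘ₗ f := by
    constructor
    · intro h ψ
      haveI := e.symm.injective.subsingleton
      haveI : Subsingleton ((N →ₗ[A] A) ⧸ LinearMap.range (LinearMap.lcomp A A f)) :=
        CanonModLib.subsingleton_of_dual he
      obtain ⟨ζ, hζ⟩ := (Submodule.Quotient.mk_eq_zero _).1
        (Subsingleton.elim (Submodule.Quotient.mk ψ : (N →ₗ[A] A) ⧸ LinearMap.range (LinearMap.lcomp A A f)) 0)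
      exact ⟨ζ, hζ.symm⟩
    · intro h
      haveI : Subsingleton ((N →ₗ[A] A) ⧸ LinearMap.range (LinearMap.lcomp A A f)) :=
        subsingleton_of_forall_eq 0 fun x => by
          obtain ⟨ψ, rfl⟩ := Submodule.Quotient.mk_surjective _ x
          obtain ⟨ζ, rfl⟩ := h ψ
          exact (Submodule.Quotient.mk_eq_zero _).2 ⟨ζ, rfl⟩
      exact e.injective.subsingleton
  rw [← hker]
  cases n with
  | zero =>
    refine iff_of_true (fun j hj => absurd hj (by omega)) (subsingleton_of_forall_eq 0 fun y => Subtype.ext ?_)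
    haveI := (lcDelta (maximalIdeal A)).mono₀ (shortExact_of hf hfg hg)
    exact (ModuleCat.mono_iff_injective ((localCohomology (maximalIdeal A) 0).map (ModuleCat.ofHom f))).1 this
      ((LinearMap.mem_ker.1 y.2).trans (map_zero _).symm)
  | succ m =>
    have hF := subsingleton_H_free_of_lt hn F (Nat.lt_succ_self m)
    let δ := Hδ (I := maximalIdeal A) hf hfg hg m
    have hinj : Function.Injective δ := (injective_iff_map_eq_zero _).2 fun y hy => by
      obtain ⟨z, rfl⟩ := ((exact_Hδ hf hfg hg m).2 y).1 hy
      rw [Subsingleton.elim z 0, map_zero]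
    let d : LocCoh.H (maximalIdeal A) m M ≃ₗ[A] LinearMap.ker (CanonModLib.topMap (m + 1) f) :=
      (LinearEquiv.ofInjective δ hinj).trans (LinearEquiv.ofEq _ _
        (LinearMap.exact_iff.1 (exact_Hδ hf hfg hg m).1).symm)
    constructor
    · intro h
      haveI := h m rfl
      exact d.symm.injective.subsingleton
    · intro h j hj
      obtain rfl : j = m := by omega
      exact d.injective.subsingleton

/-- One step of dimension shifting below the top. -/
theorem shift_iff (hn : ringKrullDim A = n) (hf : Function.Injective f) (hfg : Function.Exact f g)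
    (hg : Function.Surjective g) {k : ℕ} (hk : 1 ≤ k) :
    (∀ j, j + (k + 1) = n → Subsingleton (LocCoh.H (maximalIdeal A) j M)) ↔
      ∀ j, j + k = n → Subsingleton (LocCoh.H (maximalIdeal A) j N) := by
  constructor
  · intro h j hj
    rcases j with _ | j
    · have hm := (lcDelta (maximalIdeal A)).mono₀ (shortExact_of hf hfg hg)
      haveI := subsingleton_H_free_of_lt hn F (q := 0) (by omega)
      exact Function.Injective.subsingleton
        ((ModuleCat.mono_iff_injective ((localCohomology (maximalIdeal A) 0).map (ModuleCat.ofHom f))).1 hm)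
    · haveI := h j (by omega)
      haveI := subsingleton_H_free_of_lt hn F (q := j + 1) (by omega)
      exact subsingleton_of_forall_eq 0 fun y => by
        obtain ⟨z, rfl⟩ := ((exact_Hδ hf hfg hg j).1 y).1 (Subsingleton.elim _ _)
        rw [Subsingleton.elim z 0, map_zero]
  · intro h j hj
    haveI := h (j + 1) (by omega)
    haveI := subsingleton_H_free_of_lt hn F (q := j) (by omega)
    exact subsingleton_of_forall_eq 0 fun y => by
      obtain ⟨z, rfl⟩ := ((exact_Hδ hf hfg hg j).2 y).1 (Subsingleton.elim _ _)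
      rw [Subsingleton.elim z 0, map_zero]

end Local

section Loc

variable {R : Type u} [CommRing R] [IsNoetherianRing R] (p : Ideal R) [p.IsPrime]
  {N F : Type u} [AddCommGroup N] [Module R N] [Module.Finite R N] [AddCommGroup F] [Module R F] [Module.Finite R F]

/-- Localisation of functionals. -/
abbrev locDual (M : Type u) [AddCommGroup M] [Module R M] :
    (M →ₗ[R] R) →ₗ[R] (LocalizedModule p.primeCompl M →ₗ[Localization.AtPrime p] Localization.AtPrime p) :=
  IsLocalizedModule.mapExtendScalars p.primeCompl (LocalizedModule.mkLinearMap p.primeCompl M)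
    (Algebra.linearMap R (Localization.AtPrime p)) (Localization.AtPrime p)

theorem locDual_mk {M : Type u} [AddCommGroup M] [Module R M] (φ : M →ₗ[R] R) (m : M) :
    locDual p M φ (LocalizedModule.mkLinearMap p.primeCompl M m) = algebraMap R _ (φ m) :=
  IsLocalizedModule.map_apply p.primeCompl (LocalizedModule.mkLinearMap p.primeCompl M)
    (Algebra.linearMap R (Localization.AtPrime p)) φ m

theorem locDual_surj {M : Type u} [AddCommGroup M] [Module R M] [Module.Finite R M]
    (ψ : LocalizedModule p.primeCompl M →ₗ[Localization.AtPrime p] Localization.AtPrime p) :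
    ∃ (φ : M →ₗ[R] R) (s : p.primeCompl), (s : R) • ψ = locDual p M φ := by
  haveI : Module.FinitePresentation R M := Module.finitePresentation_of_finite R M
  obtain ⟨⟨φ, s⟩, h⟩ := IsLocalizedModule.surj p.primeCompl (locDual p M) ψ
  exact ⟨φ, s, h⟩

theorem locDual_eq {M : Type u} [AddCommGroup M] [Module R M] [Module.Finite R M] {φ φ' : M →ₗ[R] R}
    (h : locDual p M φ = locDual p M φ') : ∃ s ∉ p, s • φ = s • φ' := by
  haveI : Module.FinitePresentation R M := Module.finitePresentation_of_finite R M
  obtain ⟨c, hc⟩ := IsLocalizedModule.exists_of_eq (S := p.primeCompl) (f := locDual p M) h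
  exact ⟨c, c.2, hc⟩

theorem hom_zero_iff (M : Type u) [AddCommGroup M] [Module R M] [Module.Finite R M] :
    (∀ ψ : LocalizedModule p.primeCompl M →ₗ[Localization.AtPrime p] Localization.AtPrime p, ψ = 0) ↔
      ∀ φ : M →ₗ[R] R, ∃ s ∉ p, s • φ = 0 := by
  constructor
  · intro h φ
    obtain ⟨s, hs, h'⟩ := locDual_eq p (φ := φ) (φ' := 0) (by rw [h (locDual p M φ), map_zero])
    exact ⟨s, hs, by rw [h', smul_zero]⟩
  · intro h ψ
    obtain ⟨φ, s, hψ⟩ := locDual_surj p ψ
    obtain ⟨t, ht, h0⟩ := h φ
    have : (t * (s : R)) • ψ = 0 := by rw [mul_smul, hψ, ← map_smul, h0, map_zero]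
    refine LinearMap.ext fun x => ?_
    have hx : algebraMap R (Localization.AtPrime p) (t * s) * ψ x = 0 := by
      rw [← Algebra.smul_def, ← LinearMap.smul_apply, this, LinearMap.zero_apply]
    exact (IsLocalization.map_units (Localization.AtPrime p)
      (⟨t * s, p.primeCompl.mul_mem ht s.2⟩ : p.primeCompl)).mul_right_eq_zero.1 hx

theorem extends_iff (f : N →ₗ[R] F) :
    (∀ ψ : LocalizedModule p.primeCompl N →ₗ[Localization.AtPrime p] Localization.AtPrime p,
        ∃ ζ : LocalizedModule p.primeCompl F →ₗ[Localization.AtPrime p] Localization.AtPrime p,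
          ψ = ζ ∘ₗ LocalizedModule.map p.primeCompl f) ↔
      ∀ φ : N →ₗ[R] R, ∃ s ∉ p, ∃ χ : F →ₗ[R] R, s • φ = χ ∘ₗ f := by
  have hcomp : ∀ χ : F →ₗ[R] R,
      locDual p N (χ ∘ₗ f) = locDual p F χ ∘ₗ LocalizedModule.map p.primeCompl f := fun χ => by
    refine LinearMap.restrictScalars_injective R (IsLocalizedModule.linearMap_ext p.primeCompl
      (LocalizedModule.mkLinearMap p.primeCompl N) (Algebra.linearMap R (Localization.AtPrime p))
      (LinearMap.ext fun m => ?_))
    show locDual p N (χ ∘ₗ f) (LocalizedModule.mkLinearMap _ N m) =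
      locDual p F χ (LocalizedModule.map p.primeCompl f (LocalizedModule.mkLinearMap _ N m))
    rw [locDual_mk, LocalizedModule.mkLinearMap_apply, LocalizedModule.map_mk, ← LocalizedModule.mkLinearMap_apply,
      locDual_mk]
    rfl
  constructor
  · intro h φ
    obtain ⟨ζ, hζ⟩ := h (locDual p N φ)
    obtain ⟨χ, s, hχ⟩ := locDual_surj p ζ
    obtain ⟨t, ht, h'⟩ := locDual_eq p (φ := (s : R) • φ) (φ' := χ ∘ₗ f) (by
      rw [map_smul, hζ, hcomp, ← hχ]
      exact (LinearMap.smul_comp _ _ _).symm)
    refine ⟨t * s, p.primeCompl.mul_mem ht s.2, t • χ, ?_⟩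
    rw [mul_smul, h', LinearMap.smul_comp]
  · intro h ψ
    obtain ⟨φ, s, hψ⟩ := locDual_surj p ψ
    obtain ⟨t, ht, χ, hχ⟩ := h φ
    obtain ⟨u, hu⟩ := IsLocalization.map_units (Localization.AtPrime p)
      (⟨t * s, p.primeCompl.mul_mem ht s.2⟩ : p.primeCompl)
    refine ⟨(↑u⁻¹ : Localization.AtPrime p) • locDual p F χ, ?_⟩
    rw [LinearMap.smul_comp, ← hcomp, ← hχ, map_smul, ← hψ, ← mul_smul,
      ← algebraMap_smul (Localization.AtPrime p) (t * (s : R)) ψ,
      show algebraMap R (Localization.AtPrime p) (t * s) = ↑u from hu.symm, ← mul_smul, Units.inv_mul, one_smul]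

end Loc

section Main

variable {R : Type u} [CommRing R] [LocCoh.IsGorensteinRing R]

/-- `Ext^k(M, R)` vanishes at `p` iff `H^{ht p - k}` of `M_p` vanishes. -/
theorem van_iff_stalk (p : PrimeSpectrum R) {h : ℕ}
    (hh : ringKrullDim (Localization.AtPrime p.asIdeal) = h) :
    ∀ (k : ℕ) (M : Type u) [AddCommGroup M] [Module R M] [Module.Finite R M],
      Van p.asIdeal (E (ModuleCat.of R M) k) ↔ ∀ j, j + k = h → Subsingleton
        (LocCoh.H (maximalIdeal (Localization.AtPrime p.asIdeal)) j (LocalizedModule p.asIdeal.primeCompl M)) := by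
  haveI := LocCoh.IsGorensteinRing.isGorensteinLocalRing_localization (A := R) p.asIdeal
  intro k
  induction k with
  | zero =>
    intro M _ _ _
    rw [Nat.cast_zero, van_zero_iff, ← hom_zero_iff p.asIdeal M, ← top_iff_hom hh]
    exact ⟨fun h j hj => by obtain rfl : j = _ := hj; exact h, fun h' => h' _ rfl⟩
  | succ k ih =>
    intro M _ _ _
    obtain ⟨r, π, hπ⟩ := Module.Finite.exists_fin' R M
    let S : ShortComplex (ModuleCat.{u} R) := ShortComplex.mk
      (ModuleCat.ofHom (LinearMap.ker π).subtype)
      (ModuleCat.ofHom π : ModuleCat.of R (Fin r → R) ⟶ ModuleCat.of R M)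
      (ModuleCat.hom_ext (LinearMap.ext fun x => x.2))
    have hS : S.ShortExact :=
      { exact := (ShortComplex.moduleCat_exact_iff_range_eq_ker S).2 (Submodule.range_subtype _)
        mono_f := (ModuleCat.mono_iff_injective _).2 Subtype.val_injective
        epi_g := (ModuleCat.epi_iff_surjective _).2 hπ }
    haveI : Projective S.X₂ := by
      haveI : Module.Projective R (ModuleCat.of R (Fin r → R)) := inferInstanceAs (Module.Projective R (Fin r → R))
      exact (IsProjective.iff_projective _).1 inferInstance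
    let Nk := LinearMap.ker π
    let f := LocalizedModule.map p.asIdeal.primeCompl Nk.subtype
    let g := LocalizedModule.map p.asIdeal.primeCompl π
    have hf : Function.Injective f := LocalizedModule.map_injective _ _ Nk.injective_subtype
    have hfg : Function.Exact f g := LocalizedModule.map_exact _ _ _ (LinearMap.exact_subtype_ker_map π)
    have hg : Function.Surjective g := LocalizedModule.map_surjective _ _ hπ
    haveI : Module.Free (Localization.AtPrime p.asIdeal) (LocalizedModule p.asIdeal.primeCompl (Fin r → R)) :=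
      Module.Free.of_equiv (LocalizedModule.equivTensorProduct p.asIdeal.primeCompl (Fin r → R)).symm
    rcases Nat.eq_zero_or_pos k with rfl | hk
    · rw [Nat.zero_add, Nat.cast_one, show Van p.asIdeal (E (ModuleCat.of R M) 1) ↔ _ from van_one_iff hS,
        pred_top_iff_extends (N := LocalizedModule p.asIdeal.primeCompl Nk) (f := f) (g := g) hh hf hfg hg, extends_iff p.asIdeal Nk.subtype]
      exact Iff.rfl
    · rw [shift_iff (N := LocalizedModule p.asIdeal.primeCompl Nk) (f := f) (g := g) hh hf hfg hg hk, ← ih Nk]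
      have h0 : ∀ i : ℤ, i ≠ 0 → Van p.asIdeal (E S.X₂ i) := fun i hi =>
        haveI := subsingleton_of_projective S.X₂ hi
        van_of_subsingleton
      exact ⟨fun hv => van_ext₁ hS (k : ℤ) (h0 _ (by omega)) (by exact_mod_cast hv),
        fun hv => van_ext₃ hS _ (k : ℤ) (by push_cast; ring) hv (h0 _ (by omega))⟩

end Main

end FalLib
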