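import Groth.Agent.FalLib.DualObj
import Groth.Agent.FalLib.CechTensor
import Groth.Agent.FalLib.Stalk
import Groth.Agent.FalLib.Chain
import Groth.Agent.DualCxLib.LocGlobal
import Groth.Agent.LocCohLib.Facts

/-!
# Maps from modules into the Čech complex of a regular ring
-/

set_option autoImplicit false
set_option linter.style.haveILetI false
set_option linter.unusedSectionVars false
set_option maxHeartbeats 1000000

universe u

open CategoryTheory CategoryTheory.Limits IsLocalRing LocCohLib
open CategoryTheory.Pretriangulated (Triangle)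
open Groth.Agent Groth.Agent.DualCxLib
open DTenLib.Point (hH sg)

attribute [local instance] HasDerivedCategory.standard

noncomputable section

namespace FalLib

variable {R : Type u} [CommRing R]

/-- The Čech complex of the ring as an object of the derived category. -/
abbrev Yc (fs : List R) : Dual.D R := DerivedCategory.Q.obj (DerCA.extCech (ModuleCat.of R R) fs)

/-- The ideal of a list. -/
abbrev idealOf (fs : List R) : Ideal R := Ideal.span {x | x ∈ fs}

section Inv

theorem isIso_smul_locCx (f : R) (K : DRing.Cx R) :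
    IsIso (f • 𝟙 ((DerCA.locCx (Submonoid.powers f)).obj K)) := by
  haveI : ∀ n, IsIso ((f • 𝟙 ((DerCA.locCx (Submonoid.powers f)).obj K)).f n) := fun n => by
    rw [ConcreteCategory.isIso_iff_bijective]
    exact (Module.End.isUnit_iff _).1 (IsLocalizedModule.map_units
      (LocalizedModule.mkLinearMap (Submonoid.powers f) (K.X n)) (⟨f, Submonoid.mem_powers f⟩ : Submonoid.powers f))
  exact HomologicalComplex.Hom.isIso_of_components _

theorem isIso_smul_Q {f : R} {K : DRing.Cx R} (h : IsIso (f • 𝟙 K)) :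
    IsIso (f • 𝟙 (DerivedCategory.Q.obj K : Dual.D R)) := by
  rw [← CategoryTheory.Functor.map_id, ← Functor.map_smul]
  infer_instance

theorem isIso_smul_shift {f : R} {Z : Dual.D R} (h : IsIso (f • 𝟙 Z)) (m : ℤ) : IsIso (f • 𝟙 (Z⟦m⟧)) := by
  rw [← CategoryTheory.Functor.map_id, ← Functor.map_smul]
  infer_instance

theorem subsingleton_hom_of_inv {X Z : Dual.D R} {f : R} (hX : f • 𝟙 X = 0) (hZ : IsIso (f • 𝟙 Z)) :
    Subsingleton (X ⟶ Z) :=
  subsingleton_of_forall_eq 0 fun g => by
    rw [← cancel_mono (f • 𝟙 Z), zero_comp, Linear.comp_smul, Category.comp_id, ← Category.id_comp g,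
      ← Linear.smul_comp, hX, zero_comp]

theorem smul_id_shift {X : Dual.D R} {f : R} (hX : f • 𝟙 X = 0) (m : ℤ) : f • 𝟙 (X⟦m⟧) = 0 := by
  rw [← CategoryTheory.Functor.map_id, ← Functor.map_smul, hX, Functor.map_zero]

theorem nonempty_hom_killed : ∀ (fs : List R) (X : Dual.D R), (∀ f ∈ fs, f • 𝟙 X = 0) →
    Nonempty ((X ⟶ Yc fs) ≃ₗ[R] (X ⟶ ω₀ R))
  | [], X, _ => ⟨postcompL X ((DerivedCategory.singleFunctorIsoCompQ (ModuleCat.{u} R) 0).app _).symm⟩
  | f :: fs, X, hX => by
    obtain ⟨e⟩ := nonempty_hom_killed fs X fun g hg => hX g (List.mem_cons_of_mem f hg)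
    let φ := DerCA.locCxUnit (Submonoid.powers f) (DerCA.extCech (ModuleCat.of R R) fs)
    let T := DerivedCategory.Q.mapTriangle.obj (CochainComplex.mappingCocone.triangle φ)
    have hT : T ∈ distTriang (Dual.D R) := DerivedCategory.mappingCocone_triangle_distinguished φ
    have hf := hX f List.mem_cons_self
    have hZ : IsIso (f • 𝟙 T.obj₃) := isIso_smul_Q (isIso_smul_locCx f _)
    haveI h3 : Subsingleton (X ⟶ T.obj₃) := subsingleton_hom_of_inv hf hZ
    haveI h3' : Subsingleton (X ⟶ T.invRotate.obj₁) :=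
      subsingleton_hom_of_inv hf (isIso_smul_shift hZ (-1))
    let L : (X ⟶ T.obj₁) →ₗ[R] (X ⟶ T.obj₂) := Linear.rightComp R X T.mor₁
    have hb : Function.Bijective L := by
      refine ⟨(injective_iff_map_eq_zero _).2 fun g hg => ?_, fun g => ?_⟩
      · obtain ⟨k, hk⟩ := Triangle.coyoneda_exact₂ _ (Pretriangulated.inv_rot_of_distTriang _ hT) g hg
        rw [hk, Subsingleton.elim k 0, zero_comp]
        rfl
      · obtain ⟨k, hk⟩ := Triangle.coyoneda_exact₂ _ hT g (Subsingleton.elim _ _)
        exact ⟨k, hk.symm⟩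
    exact ⟨(LinearEquiv.ofBijective L hb).trans e⟩

end Inv

section Torsion

variable [IsNoetherianRing R] (fs : List R)

theorem isZero_coh_neg {j : ℤ} (hj : j < 0) : IsZero ((hH R j).obj (Yc fs)) :=
  (isZero_cech_neg (ModuleCat.of R R) fs j hj).of_iso ((DerivedCategory.homologyFunctorFactors _ j).app _)

instance isGE_Yc : (Yc fs).IsGE 0 :=
  (DerivedCategory.isGE_iff _ _).2 fun _ hj => isZero_coh_neg fs hj

theorem tors_coh {f : R} (hf : f ∈ idealOf fs) (j : ℤ) (y : (hH R j).obj (Yc fs)) : ∃ k : ℕ, f ^ k • y = 0 := by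
  rcases lt_or_ge j 0 with hj | hj
  · haveI := ModuleCat.subsingleton_of_isZero (isZero_coh_neg fs hj)
    exact ⟨0, Subsingleton.elim _ _⟩
  obtain ⟨i, rfl⟩ := Int.eq_ofNat_of_zero_le hj
  let e : (hH R (i : ℤ)).obj (Yc fs) ≃ₗ[R] LocCoh.H (idealOf fs) i R :=
    ((DerivedCategory.homologyFunctorFactors _ (i : ℤ)).app _).toLinearEquiv.trans
      (cechEquiv fs (idealOf fs) rfl i R).symm
  obtain ⟨k, hk⟩ := isPowerTorsion_H (idealOf fs) i R (e y)
  exact ⟨k, e.injective (by rw [map_smul, map_zero]; exact hk _ (Ideal.pow_mem_pow hf k))⟩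

theorem tors_ext_free {f : R} (hf : f ∈ idealOf fs) (n : ℕ) (i : ℤ)
    (x : DualCxLib.Ext (Yc fs) (ModuleCat.of R (Fin n → R)) i) : ∃ k : ℕ, f ^ k • x = 0 := by
  classical
  let s : Fin n → (ModuleCat.of R R ⟶ ModuleCat.of R (Fin n → R)) :=
    fun j => ModuleCat.ofHom (LinearMap.single R (fun _ => R) j)
  let p : Fin n → (ModuleCat.of R (Fin n → R) ⟶ ModuleCat.of R R) := fun j => ModuleCat.ofHom (LinearMap.proj j)
  let e := (extRingL (Yc fs) i).trans (cohEquiv (Yc fs) i)
  choose k hk using fun j => tors_coh fs hf i (e (extMap (Yc fs) (s j) i x))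
  refine ⟨Finset.univ.sup k, ?_⟩
  have h1 : 𝟙 (ModuleCat.of R (Fin n → R)) = ∑ j, p j ≫ s j :=
    ModuleCat.hom_ext (LinearMap.ext fun (v : Fin n → R) => by
      funext a
      simp only [s, p, ModuleCat.hom_sum, ModuleCat.hom_id, ModuleCat.hom_comp, ModuleCat.hom_ofHom,
        LinearMap.sum_apply, LinearMap.id_coe, id_eq, LinearMap.comp_apply]
      exact (congrFun (Finset.univ_sum_single v) a).symm)
  have h2 := congrArg (fun φ => extMap (Yc fs) φ i (f ^ Finset.univ.sup k • x)) h1
  change (DerivedCategory.singleFunctor (ModuleCat.{u} R) 0).map (𝟙 _) ≫ _ =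
    (DerivedCategory.singleFunctor (ModuleCat.{u} R) 0).map _ ≫ _ at h2
  rw [CategoryTheory.Functor.map_id, Category.id_comp, Functor.map_sum, Preadditive.sum_comp] at h2
  rw [h2]
  refine Finset.sum_eq_zero fun j _ => ?_
  have h0 : extMap (Yc fs) (s j) i (f ^ Finset.univ.sup k • x) = 0 := e.injective (by
    obtain ⟨d, hd⟩ := Nat.exists_eq_add_of_le (Finset.le_sup (f := k) (Finset.mem_univ j))
    rw [map_smul, map_smul, map_zero, hd, pow_add, mul_comm, mul_smul, hk j, smul_zero])
  rw [Functor.map_comp, Category.assoc]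
  exact (congrArg (_ ≫ ·) h0).trans comp_zero

theorem tors_ext {f : R} (hf : f ∈ idealOf fs) (M : ModuleCat.{u} R) [Module.Finite R M] (i : ℤ)
    (x : DualCxLib.Ext (Yc fs) M i) : ∃ k : ℕ, f ^ k • x = 0 := by
  suffices H : ∀ (n : ℕ) (M : ModuleCat.{u} R) [Module.Finite R M] (i : ℤ), i < n →
      ∀ x : DualCxLib.Ext (Yc fs) M i, ∃ k : ℕ, f ^ k • x = 0 from H (i + 1).toNat M i (by omega) x
  intro n
  induction n with
  | zero =>
    intro M _ i hi x
    refine ⟨0, ?_⟩
    haveI := DerivedCategory.TStructure.t.isGE_shift (Yc fs) 0 i (-i) (by omega)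
    rw [pow_zero, one_smul]
    exact DerivedCategory.TStructure.t.zero x 0 (-i) (by omega)
  | succ n ih =>
    intro M _ i hi x
    obtain ⟨k, π, hπ⟩ := Module.Finite.exists_fin' R M
    let S : ShortComplex (ModuleCat.{u} R) := ShortComplex.mk (ModuleCat.ofHom (LinearMap.ker π).subtype)
      (ModuleCat.ofHom π : ModuleCat.of R (Fin k → R) ⟶ M)
      (ModuleCat.hom_ext (LinearMap.ext fun x => x.2))
    have hS : S.ShortExact :=
      { exact := (ShortComplex.moduleCat_exact_iff_range_eq_ker S).2 (Submodule.range_subtype _)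
        mono_f := (ModuleCat.mono_iff_injective _).2 Subtype.val_injective
        epi_g := (ModuleCat.epi_iff_surjective _).2 hπ }
    haveI : Module.Finite R S.X₁ := inferInstanceAs (Module.Finite R (LinearMap.ker π))
    obtain ⟨a, ha⟩ := tors_ext_free fs hf k i (extMap (Yc fs) S.g i x)
    obtain ⟨g, hg⟩ := Triangle.yoneda_exact₃ _ hS.singleTriangle_distinguished
      (f ^ a • x : DualCxLib.Ext (Yc fs) S.X₃ i) ((map_smul (extMap (Yc fs) S.g i) (f ^ a) x).trans ha)
    let e := shiftOneL hS.singleTriangle.obj₁ (Yc fs) i (i - 1) (by omega)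
    obtain ⟨b, hb⟩ := ih S.X₁ (i - 1) (by push_cast at hi; omega) (e g)
    have hb' : f ^ b • g = 0 := e.injective (by rw [map_smul, map_zero]; exact hb)
    refine ⟨b + a, ?_⟩
    rw [pow_add, mul_smul, hg]
    show f ^ b • (_ ≫ g) = 0
    exact (Linear.comp_smul _ _ _ _ _ _).symm.trans ((congrArg (_ ≫ ·) hb').trans comp_zero)

end Torsion

section Vanishing

variable [IsRegularRing R] (fs : List R)

theorem smul_id_sg_of_killed {N : ModuleCat.{u} R} {f : R} (h : ∀ x : N, f • x = 0) : f • 𝟙 (sg N 0) = 0 := by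
  rw [← CategoryTheory.Functor.map_id, ← Functor.map_smul,
    show f • 𝟙 N = 0 from ModuleCat.hom_ext (LinearMap.ext h), Functor.map_zero]

theorem nonempty_ext_killed {N : ModuleCat.{u} R} (h : ∀ f ∈ fs, ∀ x : N, f • x = 0) (m : ℤ) :
    Nonempty (DualCxLib.Ext (Yc fs) N m ≃ₗ[R] E N m) := by
  obtain ⟨e⟩ := nonempty_hom_killed fs ((sg N 0)⟦-m⟧) fun f hf => smul_id_shift (smul_id_sg_of_killed (h f hf)) _
  exact ⟨(shiftL (sg N 0) (Yc fs) m).symm.trans (e.trans (shiftL (sg N 0) (ω₀ R) m))⟩

omit [IsRegularRing R] in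
theorem smul_quotient_eq_zero {r : Ideal R} {f : R} (hf : f ∈ r) (x : R ⧸ r) : f • x = 0 := by
  obtain ⟨a, rfl⟩ := Submodule.Quotient.mk_surjective _ x
  exact (Submodule.Quotient.mk_eq_zero _).2 (r.mul_mem_right a hf)

theorem supportDim_quotient_atPrime_le {r P : PrimeSpectrum R} (hrP : r ≤ P) :
    Module.supportDim (Localization.AtPrime P.asIdeal) (LocalizedModule P.asIdeal.primeCompl (R ⧸ r.asIdeal)) ≤
      ((ht P - ht r : ℕ) : ℕ∞) := by
  let T := Localization.AtPrime P.asIdeal
  let e := CatLib.locEmb P.asIdeal.primeCompl T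
  refine iSup_le fun l => ?_
  have hP : ∀ x, e x ≤ P := fun x a ha => by
    have h1 : e x ∈ Set.range e := ⟨x, rfl⟩
    rw [CatLib.range_locEmb] at h1
    by_contra hna
    exact Set.disjoint_left.1 h1 hna ha
  have hr : r ≤ e l.head.1 := fun a ha => by
    have h0 : algebraMap R T a ∈ Module.annihilator T (LocalizedModule P.asIdeal.primeCompl (R ⧸ r.asIdeal)) := by
      refine Module.mem_annihilator.2 fun y => ?_
      induction y using LocalizedModule.induction_on with
      | h m s => rw [algebraMap_smul, LocalizedModule.smul'_mk, smul_quotient_eq_zero ha, LocalizedModule.zero_mk]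
    exact Module.annihilator_le_of_mem_support l.head.2 h0
  have key : ∀ (j : ℕ) (hj : j < l.length + 1), ht r + j ≤ ht (e (l ⟨j, hj⟩).1) := by
    intro j
    induction j with
    | zero => intro hj; exact ht_le hr
    | succ j ih =>
      intro hj
      have h2 : ht (e (l ⟨j, by omega⟩).1) < ht (e (l ⟨j + 1, hj⟩).1) := ht_lt (e.strictMono (l.step ⟨j, by omega⟩))
      have := ih (by omega)
      omega
  have h1 := key l.length (Nat.lt_succ_self _)
  have h2 := ht_le (hP (l ⟨l.length, Nat.lt_succ_self _⟩).1)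
  exact WithBot.coe_le_coe.2 (by exact_mod_cast (show l.length ≤ ht P - ht r by omega))

theorem exists_between {r P : PrimeSpectrum R} (hrP : r ≤ P) {m : ℕ} (h1 : ht r ≤ m) (h2 : m ≤ ht P) :
    ∃ q : PrimeSpectrum R, r ≤ q ∧ ht q = m := by
  obtain ⟨s, hh, hl, hsat, -⟩ := CatLib.exists_saturated hrP (CatLib.bounded_of_height CatLib.height_ne_top r P)
  have hlen : ∀ (j : ℕ) (hj : j < s.length + 1), ht (s ⟨j, hj⟩) = ht r + j := by
    intro j
    induction j with
    | zero => intro hj; rw [← hh]; rfl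
    | succ j ih =>
      intro hj
      have := ht_covBy (hsat ⟨j, by omega⟩)
      change ht (s ⟨j + 1, hj⟩) = ht (s ⟨j, by omega⟩) + 1 at this
      rw [this, ih (by omega)]
      omega
  have hP := hlen s.length (Nat.lt_succ_self _)
  rw [show s ⟨s.length, _⟩ = s.last from rfl, hl] at hP
  exact ⟨s ⟨m - ht r, by omega⟩, hh ▸ s.head_le _, by rw [hlen]; omega⟩

theorem subsingleton_E_quotient (r : PrimeSpectrum R) (m : ℤ)
    (h : ∀ q : PrimeSpectrum R, r ≤ q → (ht q : ℤ) ≠ m) :
    Subsingleton (E (ModuleCat.of R (R ⧸ r.asIdeal)) m) := by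
  rcases lt_or_ge m 0 with hm | hm
  · exact subsingleton_of_neg _ hm
  obtain ⟨k, rfl⟩ := Int.eq_ofNat_of_zero_le hm
  refine Groth.Agent.DualCxLib.Covers.subsingleton (Groth.Agent.DualCxLib.covers_atPrime (A := R)) fun P => ?_
  show Van P.asIdeal (E (ModuleCat.of R (R ⧸ r.asIdeal)) (k : ℤ))
  by_cases hrP : r ≤ P
  · have hh : ringKrullDim (Localization.AtPrime P.asIdeal) = ht P := by
      rw [IsLocalization.AtPrime.ringKrullDim_eq_height P.asIdeal, ← coe_ht P]
      rfl
    refine (van_iff_stalk P hh k (R ⧸ r.asIdeal)).2 fun j hj => ?_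
    haveI : IsNoetherianRing (Localization.AtPrime P.asIdeal) := inferInstance
    haveI : Module.Finite (Localization.AtPrime P.asIdeal) (LocalizedModule P.asIdeal.primeCompl (R ⧸ r.asIdeal)) :=
      Module.Finite.of_isLocalizedModule P.asIdeal.primeCompl
        (LocalizedModule.mkLinearMap P.asIdeal.primeCompl (R ⧸ r.asIdeal))
    refine subsingleton_H_of_supportDim_lt j _ (lt_of_le_of_lt (supportDim_quotient_atPrime_le hrP) ?_)
    have hlt : k < ht r := by
      by_contra hcon
      obtain ⟨q, hq, hqm⟩ := exists_between hrP (not_lt.1 hcon) (m := k) (by omega)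
      exact h q hq (by exact_mod_cast hqm)
    have := ht_le hrP
    exact_mod_cast (show ht P - ht r < j by omega)
  · obtain ⟨a, har, haP⟩ := SetLike.not_le_iff_exists.1 (show ¬ r.asIdeal ≤ P.asIdeal from hrP)
    exact van_ext_of_killed (M := ModuleCat.of R (R ⧸ r.asIdeal)) haP (fun x => smul_quotient_eq_zero har x) _

theorem subsingleton_ext_of_iso {N N' : Type u} [AddCommGroup N] [Module R N] [AddCommGroup N'] [Module R N']
    (e : N ≃ₗ[R] N') (Y : Dual.D R) (m : ℤ) (h : Subsingleton (DualCxLib.Ext Y (ModuleCat.of R N') m)) :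
    Subsingleton (DualCxLib.Ext Y (ModuleCat.of R N) m) :=
  (precompL ((DerivedCategory.singleFunctor (ModuleCat.{u} R) 0).mapIso e.toModuleIso) (Y⟦m⟧)).toEquiv.subsingleton_congr.2 h

theorem dévissage {P : ∀ (N : Type u) [AddCommGroup N] [Module R N], Prop}
    (hzero : ∀ (N : Type u) [AddCommGroup N] [Module R N], Subsingleton N → P N)
    (hiso : ∀ {N N' : Type u} [AddCommGroup N] [Module R N] [AddCommGroup N'] [Module R N'], (N ≃ₗ[R] N') → P N' → P N)
    (hext : ∀ (S : ShortComplex (ModuleCat.{u} R)), S.ShortExact → P S.X₁ → P S.X₃ → P S.X₂)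
    (N : Type u) [AddCommGroup N] [Module R N] [Module.Finite R N]
    (h : ∀ q : PrimeSpectrum R, q ∈ Module.support R N → P (R ⧸ q.asIdeal)) : P N := by
  revert h
  refine IsNoetherianRing.induction_on_isQuotientEquivQuotientPrime R (M := N) inferInstance
    (motive := fun N _ _ _ => (∀ q : PrimeSpectrum R, q ∈ Module.support R N → P (R ⧸ q.asIdeal)) → P N) ?_ ?_ ?_
  · intro N _ _ _ _ _
    exact hzero N inferInstance
  · intro N _ _ _ q e h
    refine hiso e (h q ?_)
    rw [e.support_eq, Module.support_eq_zeroLocus, Ideal.annihilator_quotient]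
    exact fun a ha => ha
  · intro N₁ _ _ _ N₂ _ _ _ N₃ _ _ _ f g hf hg hfg h1 h3 h
    have hsupp := Module.support_of_exact hfg hf hg
    exact hext (ShortComplex.mk (ModuleCat.ofHom f) (ModuleCat.ofHom g)
      (ModuleCat.hom_ext (LinearMap.ext fun x => hfg.apply_apply_eq_zero x)))
      { exact := (ShortComplex.moduleCat_exact_iff_range_eq_ker _).2 (LinearMap.exact_iff.1 hfg).symm
        mono_f := (ModuleCat.mono_iff_injective _).2 hf
        epi_g := (ModuleCat.epi_iff_surjective _).2 hg }
      (h1 fun q hq => h q (by rw [hsupp]; exact Or.inl hq))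
      (h3 fun q hq => h q (by rw [hsupp]; exact Or.inr hq))

theorem subsingleton_ext_zero {N : Type u} [AddCommGroup N] [Module R N] (hN : Subsingleton N) (Y : Dual.D R) (m : ℤ) :
    Subsingleton (DualCxLib.Ext Y (ModuleCat.of R N) m) :=
  ⟨fun a b => (Functor.map_isZero _ (@ModuleCat.isZero_of_subsingleton R _ (ModuleCat.of R N) hN)).eq_of_src a b⟩

/-- Vanishing when no prime of `V(I)` over `r` has height `m`. -/
theorem subsingleton_prime (m : ℤ) : ∀ r : PrimeSpectrum R,
    (∀ q : PrimeSpectrum R, r ≤ q → idealOf fs ≤ q.asIdeal → (ht q : ℤ) ≠ m) →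
      Subsingleton (DualCxLib.Ext (Yc fs) (ModuleCat.of R (R ⧸ r.asIdeal)) m) := by
  haveI := Groth.Agent.DualCxLib.wellFoundedGT_primeSpectrum (A := R)
  intro r
  induction r using WellFoundedGT.induction with
  | ind r ih =>
    intro h
    by_cases hr : idealOf fs ≤ r.asIdeal
    · obtain ⟨e⟩ := nonempty_ext_killed fs (N := ModuleCat.of R (R ⧸ r.asIdeal))
        (fun f hf x => smul_quotient_eq_zero (hr (Ideal.subset_span hf)) x) m
      haveI := subsingleton_E_quotient r m fun q hq => h q hq (hr.trans hq)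
      exact e.injective.subsingleton
    · obtain ⟨f, hfI, hfr⟩ := SetLike.not_le_iff_exists.1 hr
      have hreg : IsSMulRegular (R ⧸ r.asIdeal) f := by
        refine (isSMulRegular_iff_right_eq_zero_of_smul (R := R)).2 fun x hx => ?_
        obtain ⟨a, rfl⟩ := Submodule.Quotient.mk_surjective _ x
        rw [← Submodule.Quotient.mk_smul, Submodule.Quotient.mk_eq_zero] at hx
        exact (Submodule.Quotient.mk_eq_zero _).2 ((r.isPrime.mem_or_mem hx).resolve_left hfr)
      let S := mulSeq (ModuleCat.of R (R ⧸ r.asIdeal)) f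
      haveI : Module.Finite R S.X₃ := inferInstanceAs (Module.Finite R ((R ⧸ r.asIdeal) ⧸ _))
      have h3 : Subsingleton (DualCxLib.Ext (Yc fs) S.X₃ m) := by
        refine dévissage (P := fun N _ _ => Subsingleton (DualCxLib.Ext (Yc fs) (ModuleCat.of R N) m))
          (fun N _ _ hN => subsingleton_ext_zero hN _ m) (fun e h' => subsingleton_ext_of_iso e _ m h')
          (fun S hS h1 h3 => subsingleton_ext₂ hS m h1 h3) S.X₃ fun q hq => ?_
        have hann := Module.annihilator_le_of_mem_support hq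
        have hrq : r ≤ q := fun a ha => hann (Module.mem_annihilator.2 fun y => by
          obtain ⟨x, rfl⟩ := Submodule.Quotient.mk_surjective _ y
          rw [← Submodule.Quotient.mk_smul, smul_quotient_eq_zero ha, Submodule.Quotient.mk_zero])
        have hfq : f ∈ q.asIdeal := hann (Module.mem_annihilator.2 fun y => by
          obtain ⟨x, rfl⟩ := Submodule.Quotient.mk_surjective _ y
          exact (Submodule.Quotient.mk_eq_zero _).2 ⟨x, rfl⟩)
        exact ih q (lt_of_le_of_ne hrq fun e => hfr (e ▸ hfq)) fun q' hq' hI => h q' (hrq.trans hq') hI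
      have hinj : ∀ x : DualCxLib.Ext (Yc fs) (ModuleCat.of R (R ⧸ r.asIdeal)) m, f • x = 0 → x = 0 := fun x hx => by
        obtain ⟨g, hg⟩ := exists_of_extMap_f_eq_zero (shortExact_mulSeq hreg) m x
          ((extMap_smul_id f _ m x).trans hx)
        rw [hg, Subsingleton.elim g 0, map_zero]
      refine subsingleton_of_forall_eq 0 fun x => ?_
      obtain ⟨k, hk⟩ := tors_ext fs hfI _ m x
      induction k generalizing x with
      | zero => rwa [pow_zero, one_smul] at hk
      | succ k ihk => exact hinj x (ihk (f • x) (by rw [← mul_smul, ← pow_succ]; exact hk))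

end Vanishing

end FalLib
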