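import Groth.Agent.DualCxLib.Van
import Mathlib.CategoryTheory.Abelian.Projective.Ext
import Mathlib.Algebra.Category.ModuleCat.Projective
import Mathlib.Algebra.Category.ModuleCat.Ext.HasExt

/-!
# `Ext` into the ring, as maps in the derived category
-/

set_option autoImplicit false
set_option linter.style.haveILetI false
set_option linter.unusedSectionVars false

universe u

open CategoryTheory CategoryTheory.Limits
open CategoryTheory.Pretriangulated (Triangle)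
open Groth.Agent Groth.Agent.DualCxLib
open DTenLib.Point (hH sg kM)

attribute [local instance] HasDerivedCategory.standard

noncomputable section

namespace FalLib

variable {R : Type u} [CommRing R]

/-- The ring in degree zero. -/
abbrev ω₀ (R : Type u) [CommRing R] : Dual.D R := sg (ModuleCat.of R R) 0

/-- `Ext^i(M, R)`. -/
abbrev E (M : ModuleCat.{u} R) (i : ℤ) : Type (u + 1) := DualCxLib.Ext (ω₀ R) M i

theorem subsingleton_of_neg (M : ModuleCat.{u} R) {i : ℤ} (hi : i < 0) : Subsingleton (E M i) :=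
  subsingleton_of_forall_eq 0 fun f => by
    haveI := DerivedCategory.TStructure.t.isGE_shift (ω₀ R) 0 i (-i) (by omega)
    exact DerivedCategory.TStructure.t.zero f 0 (-i) (by omega)

theorem subsingleton_of_projective (F : ModuleCat.{u} R) [Projective F] {i : ℤ} (hi : i ≠ 0) :
    Subsingleton (E F i) := by
  rcases lt_or_gt_of_ne hi with h | h
  · exact subsingleton_of_neg F h
  · obtain ⟨n, rfl⟩ : ∃ n : ℕ, i = ((n + 1 : ℕ) : ℤ) := ⟨(i - 1).toNat, by omega⟩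
    haveI : Subsingleton (Abelian.Ext F (ModuleCat.of R R) (n + 1)) :=
      subsingleton_of_forall_eq 0 fun x => x.eq_zero_of_projective
    exact (Abelian.Ext.homEquiv (X := F) (Y := ModuleCat.of R R) (n := n + 1)).symm.subsingleton

/-- The trivial shift of the ring. -/
def zeroShift (R : Type u) [CommRing R] : ω₀ R ≅ (ω₀ R)⟦(0 : ℤ)⟧ :=
  ((shiftFunctorZero (Dual.D R) ℤ).app (ω₀ R)).symm

/-- The functor `M ↦ M[0]` on maps. -/
def mapL (M : ModuleCat.{u} R) : (M →ₗ[R] R) →ₗ[R] (sg M 0 ⟶ ω₀ R) where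
  toFun φ := (DerivedCategory.singleFunctor (ModuleCat.{u} R) 0).map (ModuleCat.ofHom φ : M ⟶ ModuleCat.of R R)
  map_add' φ ψ := by
    rw [show (ModuleCat.ofHom (φ + ψ) : M ⟶ ModuleCat.of R R) = ModuleCat.ofHom φ + ModuleCat.ofHom ψ from rfl]
    exact Functor.map_add _
  map_smul' r φ := by
    rw [show (ModuleCat.ofHom (r • φ) : M ⟶ ModuleCat.of R R) = r • ModuleCat.ofHom φ from rfl]
    exact Functor.map_smul (DerivedCategory.singleFunctor (ModuleCat.{u} R) 0) r _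

theorem mapL_bijective (M : ModuleCat.{u} R) : Function.Bijective (mapL M) := by
  refine ⟨fun φ ψ h => congrArg ModuleCat.Hom.hom
    ((DerivedCategory.singleFunctor (ModuleCat.{u} R) 0).map_injective h), fun x => ?_⟩
  obtain ⟨ψ, hψ⟩ := (DerivedCategory.singleFunctor (ModuleCat.{u} R) 0).map_surjective x
  exact ⟨ψ.hom, hψ⟩

/-- A homomorphism as an element of `Ext^0`. -/
def hom₀ (M : ModuleCat.{u} R) : (M →ₗ[R] R) →ₗ[R] E M 0 :=
  (postcompL (sg M 0) (zeroShift R)).toLinearMap ∘ₗ mapL M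

theorem hom₀_bijective (M : ModuleCat.{u} R) : Function.Bijective (hom₀ M) :=
  (postcompL (sg M 0) (zeroShift R)).bijective.comp (mapL_bijective M)

theorem extMap_hom₀ {M N : ModuleCat.{u} R} (f : M ⟶ N) (φ : N →ₗ[R] R) :
    extMap (ω₀ R) f 0 (hom₀ N φ) = hom₀ M (φ ∘ₗ f.hom) :=
  (Category.assoc ((DerivedCategory.singleFunctor (ModuleCat.{u} R) 0).map f) (mapL N φ) (zeroShift R).hom).symm.trans
    (congrArg (· ≫ (zeroShift R).hom)
      ((DerivedCategory.singleFunctor (ModuleCat.{u} R) 0).map_comp f (ModuleCat.ofHom φ : N ⟶ ModuleCat.of R R)).symm)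

variable {p : Ideal R} [p.IsPrime]

theorem van_zero_iff (M : ModuleCat.{u} R) :
    Van p (E M 0) ↔ ∀ φ : M →ₗ[R] R, ∃ s ∉ p, s • φ = 0 := by
  constructor
  · intro h φ
    obtain ⟨s, hs, h0⟩ := h (hom₀ M φ)
    exact ⟨s, hs, (hom₀_bijective M).1 (by rw [map_smul, h0, map_zero])⟩
  · intro h x
    obtain ⟨φ, rfl⟩ := (hom₀_bijective M).2 x
    obtain ⟨s, hs, h0⟩ := h φ
    exact ⟨s, hs, by rw [← map_smul, h0, map_zero]⟩

variable {S : ShortComplex (ModuleCat.{u} R)} (hS : S.ShortExact) [Projective S.X₂]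
include hS

/-- `Ext^1` of the quotient vanishes at `p` iff maps extend up to elements outside `p`. -/
theorem van_one_iff :
    Van p (E S.X₃ 1) ↔ ∀ φ : S.X₁ →ₗ[R] R, ∃ s ∉ p, ∃ χ : S.X₂ →ₗ[R] R, s • φ = χ ∘ₗ S.f.hom := by
  constructor
  · intro h φ
    obtain ⟨s, hs, g, hg⟩ := exists_extend_van hS 0 (by rwa [zero_add]) (hom₀ S.X₁ φ)
    obtain ⟨χ, rfl⟩ := (hom₀_bijective S.X₂).2 g
    rw [extMap_hom₀, ← map_smul] at hg
    exact ⟨s, hs, χ, (hom₀_bijective S.X₁).1 hg⟩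
  · intro h x
    haveI := subsingleton_of_projective S.X₂ (i := (1 : ℤ)) one_ne_zero
    have hT := hS.singleTriangle_distinguished
    obtain ⟨y, hy⟩ := Triangle.yoneda_exact₃ _ hT (x : E S.X₃ 1) (Subsingleton.elim (α := E S.X₂ 1) _ _)
    let sh := shift₂ (ω₀ R) 0 1 1 (zero_add 1)
    obtain ⟨y₀, hy₀⟩ := (shiftFunctor (Dual.D R) (1 : ℤ)).map_surjective
      (y ≫ sh.inv : (sg S.X₁ 0)⟦(1 : ℤ)⟧ ⟶ ((ω₀ R)⟦(0 : ℤ)⟧)⟦(1 : ℤ)⟧)
    obtain ⟨φ, rfl⟩ := (hom₀_bijective S.X₁).2 y₀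
    obtain ⟨s, hs, χ, hχ⟩ := h φ
    refine ⟨s, hs, ?_⟩
    have h1 : s • hom₀ S.X₁ φ = extMap (ω₀ R) S.f 0 (hom₀ S.X₂ χ) := by
      rw [extMap_hom₀, ← map_smul, hχ]
    have h2 : hS.singleTriangle.mor₃ ≫
        ((DerivedCategory.singleFunctor (ModuleCat.{u} R) 0).map S.f)⟦(1 : ℤ)⟧' = 0 :=
      Pretriangulated.comp_distTriang_mor_zero₃₁ _ hT
    let y' : (sg S.X₁ 0)⟦(1 : ℤ)⟧ ⟶ (ω₀ R)⟦(1 : ℤ)⟧ := y
    have h3 : s • y' = (s • hom₀ S.X₁ φ)⟦(1 : ℤ)⟧' ≫ sh.hom :=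
      (congrArg (s • ·) (show y' = (y' ≫ sh.inv) ≫ sh.hom by rw [Category.assoc, Iso.inv_hom_id, Category.comp_id])).trans
        ((congrArg (fun w => s • (w ≫ sh.hom)) hy₀.symm).trans
          ((Linear.smul_comp _ _ _ _ _ _).symm.trans
            (congrArg (· ≫ sh.hom) (Functor.map_smul (shiftFunctor (Dual.D R) (1 : ℤ)) s (hom₀ S.X₁ φ : sg S.X₁ 0 ⟶ (ω₀ R)⟦(0 : ℤ)⟧)).symm)))
    let f₁ : sg S.X₁ 0 ⟶ sg S.X₂ 0 := (DerivedCategory.singleFunctor (ModuleCat.{u} R) 0).map S.f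
    let m₃ : sg S.X₃ 0 ⟶ (sg S.X₁ 0)⟦(1 : ℤ)⟧ := hS.singleTriangle.mor₃
    have h2' : m₃ ≫ f₁⟦(1 : ℤ)⟧' = 0 := h2
    let y₂ : sg S.X₂ 0 ⟶ (ω₀ R)⟦(0 : ℤ)⟧ := hom₀ S.X₂ χ
    have h1' : s • hom₀ S.X₁ φ = f₁ ≫ y₂ := h1
    rw [hy]
    show s • (m₃ ≫ y') = 0
    rw [← Linear.comp_smul, h3, h1', Functor.map_comp, ← Category.assoc, ← Category.assoc, h2', zero_comp, zero_comp]

end FalLib
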