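import Groth.Agent.FalLib.Finite
import Groth.Agent.DualCxLib.FinLenLC
import Groth.Agent.CommAlgDim.GlobalDim

/-!
# Finite length of local cohomology over a regular local ring
-/

set_option autoImplicit false
set_option linter.style.haveILetI false
set_option linter.unusedSectionVars false
set_option maxHeartbeats 1000000

universe u

open CategoryTheory IsLocalRing LocCohLib
open Groth.Agent Groth.Agent.DualCxLib

attribute [local instance] HasDerivedCategory.standard

noncomputable section

namespace FalLib

variable {R : Type u} [CommRing R] [IsRegularLocalRing R] {n : ℕ}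

theorem finite_iff_support {H Q : Type u} [AddCommGroup H] [Module R H] [IsArtinian R H] [AddCommGroup Q] [Module R Q]
    [Module.Finite R Q] {E : Type u} [AddCommGroup E] [Module R E] {f : ResidueField R →ₗ[R] E}
    (hf : InjHull.IsInjectiveHull f) (e : H ≃ₗ[R] (Q →ₗ[R] E)) :
    Module.Finite R H ↔ ∀ P : PrimeSpectrum R, P.asIdeal ≠ maximalIdeal R → ∀ x : Q, ∃ s ∉ P.asIdeal, s • x = 0 := by
  have h1 : Module.Finite R H ↔ IsFiniteLength R (Q →ₗ[R] E) := by
    rw [← Module.length_ne_top_iff, ← e.length_eq, Module.length_ne_top_iff, isFiniteLength_iff_isNoetherian_isArtinian]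
    exact ⟨fun h => ⟨inferInstance, inferInstance⟩, fun h => haveI := h.1; inferInstance⟩
  rw [h1, isFiniteLength_dual_iff hf Q]
  refine ⟨fun h P hP x => ?_, fun h P hP => by_contra fun hne => ?_⟩
  · have hns : P ∉ Module.support R Q := fun hmem => hP (h P hmem)
    rw [Module.notMem_support_iff, LocalizedModule.subsingleton_iff] at hns
    exact hns x
  · rw [Module.mem_support_iff] at hP
    exact not_subsingleton_iff_nontrivial.2 hP (LocalizedModule.subsingleton_iff.2 (h P hne))

/-- Finiteness of `H^{n-k}_m(M)` in terms of `Ext^k(M, R)`. -/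
theorem finite_iff_van (hn : ringKrullDim R = n) : ∀ (k : ℕ) (M : Type u) [AddCommGroup M] [Module R M] [Module.Finite R M],
    (∀ j, j + k = n → Module.Finite R (LocCoh.H (maximalIdeal R) j M)) ↔
      ∀ P : PrimeSpectrum R, P.asIdeal ≠ maximalIdeal R → Van P.asIdeal (E (ModuleCat.of R M) k) := by
  haveI : IsRegularRing R := CommAlgDim.isRegularRing_of_isRegularLocalRing R
  haveI : IsNoetherianRing R := inferInstance
  obtain ⟨E', _, _, f, hf⟩ := InjHullLib.exists_injectiveHull (R := R) (ResidueField R)
  obtain ⟨-, ⟨eK⟩⟩ := CanonModLib.regular_canon R n hn E' f hf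
  intro k
  induction k with
  | zero =>
    intro M _ _ _
    haveI := isArtinian_H (R := R) n M
    haveI : Module.Finite R (M →ₗ[R] R) := inferInstance
    have key := finite_iff_support hf (CanonModLib.topDual hn.le hf.isInjective eK M)
    rw [Nat.cast_zero]
    simp only [add_zero, forall_eq, van_zero_iff]
    exact key
  | succ k ih =>
    intro M _ _ _
    obtain ⟨r, π, hπ⟩ := Module.Finite.exists_fin' R M
    let S : ShortComplex (ModuleCat.{u} R) := ShortComplex.mk
      (ModuleCat.ofHom (LinearMap.ker π).subtype)
      (ModuleCat.ofHom π : ModuleCat.of R (Fin r → R) ⟶ ModuleCat.of R M)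
      (ModuleCat.hom_ext (LinearMap.ext fun x => x.2))
    have hS : S.ShortExact :=
      { exact := (ShortComplex.moduleCat_exact_iff_range_eq_ker S).2 (Submodule.range_subtype _)
        mono_f := (ModuleCat.mono_iff_injective _).2 Subtype.val_injective
        epi_g := (ModuleCat.epi_iff_surjective _).2 hπ }
    haveI : Projective S.X₂ := by
      haveI : Module.Projective R (ModuleCat.of R (Fin r → R)) := inferInstanceAs (Module.Projective R (Fin r → R))
      exact (IsProjective.iff_projective _).1 inferInstance
    let N := LinearMap.ker π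
    let f₀ := N.subtype
    have hi : Function.Injective f₀ := N.injective_subtype
    have he : Function.Exact f₀ π := LinearMap.exact_subtype_ker_map π
    rcases Nat.eq_zero_or_pos k with rfl | hk
    · cases n with
      | zero =>
        refine iff_of_true (fun j hj => absurd hj (by omega)) fun P hP => absurd ?_ hP
        haveI : Ring.KrullDimLE 0 R := Ring.krullDimLE_iff.2 (le_of_eq hn)
        exact IsLocalRing.eq_maximalIdeal (Ideal.isMaximal_of_isPrime P.asIdeal)
      | succ m =>
        have hF := subsingleton_H_free_of_lt hn (Fin r → R) (Nat.lt_succ_self m)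
        let δ := Hδ (I := maximalIdeal R) hi he hπ m
        have hinj : Function.Injective δ := (injective_iff_map_eq_zero _).2 fun y hy => by
          obtain ⟨z, rfl⟩ := ((exact_Hδ hi he hπ m).2 y).1 hy
          rw [Subsingleton.elim z 0, map_zero]
        let d : LocCoh.H (maximalIdeal R) m M ≃ₗ[R] LinearMap.ker (CanonModLib.topMap (m + 1) f₀) :=
          (LinearEquiv.ofInjective δ hinj).trans (LinearEquiv.ofEq _ _
            (LinearMap.exact_iff.1 (exact_Hδ hi he hπ m).1).symm)
        obtain ⟨e⟩ := CanonModLib.kerEquiv hn.le hf.isInjective eK f₀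
        haveI := isArtinian_H (R := R) m M
        have key := finite_iff_support hf (d.trans e)
        have h1 : ∀ P : PrimeSpectrum R, Van P.asIdeal (E (ModuleCat.of R M) 1) ↔
            ∀ x : (N →ₗ[R] R) ⧸ LinearMap.range (LinearMap.lcomp R R f₀), ∃ s ∉ P.asIdeal, s • x = 0 := fun P => by
          rw [show Van P.asIdeal (E (ModuleCat.of R M) 1) ↔ _ from van_one_iff hS]
          constructor
          · intro h x
            obtain ⟨φ, rfl⟩ := Submodule.Quotient.mk_surjective _ x
            obtain ⟨s, hs, χ, hχ⟩ := h φ
            exact ⟨s, hs, (Submodule.Quotient.mk_eq_zero _).2 ⟨χ, hχ.symm⟩⟩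
          · intro h φ
            obtain ⟨s, hs, h0⟩ := h (Submodule.Quotient.mk φ)
            rw [← Submodule.Quotient.mk_smul, Submodule.Quotient.mk_eq_zero] at h0
            obtain ⟨χ, hχ⟩ := h0
            exact ⟨s, hs, χ, hχ.symm⟩
        rw [show ((0 + 1 : ℕ) : ℤ) = 1 from rfl]
        simp only [Nat.zero_add, h1]
        rw [← key]
        exact ⟨fun h => h m rfl, fun h j hj => by obtain rfl : j = m := by omega
                                                  exact h⟩
    · have h0 : ∀ i : ℤ, i ≠ 0 → ∀ P : PrimeSpectrum R, Van P.asIdeal (E S.X₂ i) := fun i hi P =>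
        haveI := subsingleton_of_projective S.X₂ hi
        van_of_subsingleton
      have hbij : ∀ j, j + (k + 1) = n → Function.Bijective (Hδ (I := maximalIdeal R) hi he hπ j) := fun j hj => by
        haveI := subsingleton_H_free_of_lt hn (Fin r → R) (q := j) (by omega)
        haveI := subsingleton_H_free_of_lt hn (Fin r → R) (q := j + 1) (by omega)
        refine ⟨(injective_iff_map_eq_zero _).2 fun y hy => ?_,
          fun y => ((exact_Hδ hi he hπ j).1 y).1 (Subsingleton.elim _ _)⟩
        obtain ⟨z, rfl⟩ := ((exact_Hδ hi he hπ j).2 y).1 hy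
        rw [Subsingleton.elim z 0, map_zero]
      calc (∀ j, j + (k + 1) = n → Module.Finite R (LocCoh.H (maximalIdeal R) j M))
          ↔ ∀ j, j + k = n → Module.Finite R (LocCoh.H (maximalIdeal R) j N) := by
            constructor
            · intro h j hj
              rcases j with _ | j
              · exact finite_H0
              · haveI := h j (by omega)
                exact Module.Finite.equiv (LinearEquiv.ofBijective _ (hbij j (by omega)))
            · intro h j hj
              haveI := h (j + 1) (by omega)
              exact Module.Finite.equiv (LinearEquiv.ofBijective _ (hbij j hj)).symm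
        _ ↔ ∀ P : PrimeSpectrum R, P.asIdeal ≠ maximalIdeal R → Van P.asIdeal (E (ModuleCat.of R N) k) := ih N
        _ ↔ _ := forall_congr' fun P => imp_congr_right fun _ =>
            ⟨fun hv => van_ext₃ hS _ (k : ℤ) (by push_cast; ring) hv (h0 _ (by omega) P),
              fun hv => van_ext₁ hS (k : ℤ) (h0 _ (by omega) P) (by exact_mod_cast hv)⟩

variable {A : Type u} [CommRing A] [IsLocalRing A] [IsNoetherianRing A] [Algebra R A]

/-- Finiteness along a semilinear bijection. -/
theorem finite_of_semilinear (hs : Function.Surjective (algebraMap R A)) {V W : Type u} [AddCommGroup V] [Module A V]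
    [AddCommGroup W] [Module R W] (φ : V ≃+ W) (hφ : ∀ (r : R) (x : V), φ (algebraMap R A r • x) = r • φ x)
    (h : Module.Finite A V) : Module.Finite R W := by
  classical
  obtain ⟨S, hS⟩ := h.fg_top
  refine ⟨⟨S.image φ, eq_top_iff.2 fun y _ => ?_⟩⟩
  have hy : φ.symm y ∈ Submodule.span A (S : Set V) := hS.symm ▸ Submodule.mem_top
  rw [← φ.apply_symm_apply y]
  generalize φ.symm y = x at hy ⊢
  induction hy using Submodule.span_induction with
  | mem v hv => exact Submodule.subset_span (Finset.mem_coe.2 (Finset.mem_image_of_mem _ hv))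
  | zero => rw [map_zero]; exact zero_mem _
  | add u v _ _ hu hv => rw [map_add]; exact add_mem hu hv
  | smul a u _ hu =>
    obtain ⟨r, rfl⟩ := hs a
    rw [hφ]
    exact Submodule.smul_mem _ _ hu

theorem isFiniteLength_iff_stalk (hs : Function.Surjective (algebraMap R A)) (M : Type u) [AddCommGroup M] [Module A M]
    [Module R M] [IsScalarTower R A M] [Module.Finite A M] [Module.Finite R M] (i : ℕ) :
    IsFiniteLength A (LocCoh.H (maximalIdeal A) i M) ↔ ∀ p : PrimeSpectrum A, p.asIdeal ≠ maximalIdeal A →
      ∀ (e j : ℕ), ringKrullDim (A ⧸ p.asIdeal) = e → j + e = i → Subsingleton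
        (LocCoh.H (maximalIdeal (Localization.AtPrime p.asIdeal)) j (LocalizedModule p.asIdeal.primeCompl M)) := by
  haveI : IsRegularRing R := CommAlgDim.isRegularRing_of_isRegularLocalRing R
  haveI := isArtinian_H (R := A) i M
  have hfl : IsFiniteLength A (LocCoh.H (maximalIdeal A) i M) ↔ Module.Finite A (LocCoh.H (maximalIdeal A) i M) := by
    rw [isFiniteLength_iff_isNoetherian_isArtinian]
    exact ⟨fun h => haveI := h.1; inferInstance, fun h => ⟨inferInstance, inferInstance⟩⟩
  rw [hfl]
  obtain ⟨n, hn⟩ := CommAlgDim.exists_ringKrullDim_eq (R := R)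
  let mA : PrimeSpectrum A := ⟨maximalIdeal A, inferInstance⟩
  have hmA : (maximalIdeal A).comap (algebraMap R A) = maximalIdeal R :=
    IsLocalRing.eq_maximalIdeal (Ideal.comap_isMaximal_of_surjective _ hs)
  have hrm : rht R mA = n := by
    show ((maximalIdeal A).comap (algebraMap R A)).height.toNat = n
    rw [hmA]
    have h1 := IsLocalRing.maximalIdeal_height_eq_ringKrullDim (R := R)
    rw [hn] at h1
    rw [show (maximalIdeal R).height = (n : ℕ∞) by exact_mod_cast h1]
    rfl
  have hdim : ∀ (p : PrimeSpectrum A) (e : ℕ), ringKrullDim (A ⧸ p.asIdeal) = e → rht R p + e = n := fun p e he => by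
    have h1 := CatLib.ringKrullDim_quotient_add_height (R := R) (CommAlgDim.isCM_of_isRegularLocalRing R)
      (below (R := R) p).asIdeal
    rw [DualCxLib.ringKrullDim_quotient_comap (S := R) hs, he, hn, ← coe_ht (below (R := R) p)] at h1
    change ((e : ℕ∞) : WithBot ℕ∞) + ((rht R p : ℕ∞) : WithBot ℕ∞) = ((n : ℕ∞) : WithBot ℕ∞) at h1
    have h2 : e + rht R p = n := by exact_mod_cast h1
    omega
  constructor
  · intro hfin p hp e j he hj
    refine (stalk_iff (R := R) hs M p j).2 fun k hk => ?_
    have := hdim p e he
    refine (finite_iff_van hn k M).1 (fun j' hj' => ?_) (below (R := R) p) fun h' => hp ?_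
    · obtain rfl : j' = i := by omega
      obtain ⟨φ, hφ⟩ := exists_addEquiv_restrict (maximalIdeal R) (R' := A) M j'
      have hmap : (maximalIdeal R).map (algebraMap R A) = maximalIdeal A := by
        rw [← hmA]; exact Ideal.map_comap_of_surjective _ hs _
      exact finite_of_semilinear hs φ hφ (hmap.symm ▸ hfin)
    · exact congrArg PrimeSpectrum.asIdeal (le_antisymm
        (IsLocalRing.le_maximalIdeal p.isPrime.ne_top : p ≤ mA)
        ((comap_le_iff hs).1 (show PrimeSpectrum.comap (algebraMap R A) mA ≤ PrimeSpectrum.comap (algebraMap R A) p from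
          fun x hx => h'.ge (hmA.le hx))))
  · intro h
    refine finite_quotient (R := R) hs (maximalIdeal A) M i fun r q _ hr hq k hk => ?_
    obtain rfl : q = mA := PrimeSpectrum.ext (le_antisymm (IsLocalRing.le_maximalIdeal q.isPrime.ne_top) hq)
    rw [hrm] at hk
    have hr' : r.asIdeal ≠ maximalIdeal A := fun h' => hr h'.ge
    obtain ⟨e, he⟩ : ∃ e : ℕ, ringKrullDim (A ⧸ r.asIdeal) = e := by
      haveI : IsLocalRing (A ⧸ r.asIdeal) := IsLocalRing.of_surjective' _ Ideal.Quotient.mk_surjective
      exact CommAlgDim.exists_ringKrullDim_eq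
    have := hdim r e he
    have hh : ringKrullDim (Localization.AtPrime (below (R := R) r).asIdeal) = rht R r := by
      rw [IsLocalization.AtPrime.ringKrullDim_eq_height (below (R := R) r).asIdeal, ← coe_ht (below (R := R) r)]
      rfl
    by_cases hke : k ≤ rht R r
    · exact (stalk_iff (R := R) hs M r (rht R r - k)).1 (h r hr' e (rht R r - k) he (by omega)) k (by omega)
    · exact (van_iff_stalk _ hh k M).2 fun j hj => absurd hj (by omega)

end FalLib
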