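import Groth.Agent.FalLib.Engine
import Groth.Agent.FalLib.Cond
import Groth.Agent.LocCohLib.BaseChange

/-!
# Grothendieck's finiteness theorem
-/

set_option autoImplicit false
set_option linter.style.haveILetI false
set_option linter.unusedSectionVars false
set_option maxHeartbeats 1000000

universe u

open CategoryTheory CategoryTheory.Limits IsLocalRing LocCohLib DTen
open Groth.Agent Groth.Agent.DualCxLib
open DTenLib.Point (hH sg)

attribute [local instance] HasDerivedCategory.standard

noncomputable section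

namespace FalLib

variable {R : Type u} [CommRing R] [IsRegularRing R]

instance isGE_ω₀ : (ω₀ R).IsGE 0 :=
  (DerivedCategory.isGE_iff _ _).2 fun _ hj => DTenLib.Point.isZero_sg (ne_of_lt hj)

theorem finite_coh_ω₀ (j : ℤ) : Module.Finite R ((hH R j).obj (ω₀ R)) := by
  by_cases hj : j = 0
  · subst hj
    exact Module.Finite.equiv (DTenLib.Point.sgH (ModuleCat.of R R) 0).toLinearEquiv.symm
  · haveI := ModuleCat.subsingleton_of_isZero (DTenLib.Point.isZero_sg (N := ModuleCat.of R R) (i := (0 : ℤ)) hj)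
    infer_instance

theorem isNoetherian_E (M : Type u) [AddCommGroup M] [Module R M] [Module.Finite R M] (j : ℤ) :
    IsNoetherian R (E (ModuleCat.of R M) j) :=
  isNoetherian_ext (ω := ω₀ R) (a := 0) inferInstance finite_coh_ω₀ (ModuleCat.of R M) j

/-- Maps out of `N[-j]`. -/
theorem nonempty_hom_single (N : ModuleCat.{u} R) (Y : Dual.D R) (j i : ℤ) :
    Nonempty ((sg N j ⟶ Y⟦i⟧) ≃ₗ[R] DualCxLib.Ext Y N (i + j)) :=
  ⟨((precompL (DTenLib.Point.shiftSg N 0 (-j) ≪≫ eqToIso (by simp)).symm (Y⟦i⟧)).trans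
    (shiftL _ (Y⟦i⟧) j)).trans (postcompL _ (shift₂ Y i j (i + j) rfl))⟩

theorem mem_support_not_van {W : Type u} [AddCommGroup W] [Module R W] {V : Type (u + 1)} [AddCommGroup V]
    [Module R V] (e : W ≃ₗ[R] V) {q : PrimeSpectrum R} (hq : q ∈ Module.support R W) : ¬ Van q.asIdeal V := by
  intro hv
  rw [Module.mem_support_iff] at hq
  refine not_subsingleton_iff_nontrivial.2 hq (LocalizedModule.subsingleton_iff.2 fun x => ?_)
  obtain ⟨s, hs, hx⟩ := hv (e x)
  exact ⟨s, hs, e.injective (by rw [map_smul, hx, map_zero])⟩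

/-- The finiteness theorem over a regular ring. -/
theorem finite_regular (fs : List R) (M : Type u) [AddCommGroup M] [Module R M] [Module.Finite R M] (i : ℕ)
    (h : ∀ r q : PrimeSpectrum R, r ≤ q → ¬ idealOf fs ≤ r.asIdeal → idealOf fs ≤ q.asIdeal → ∀ k : ℕ,
      ht q = k + i → Van r.asIdeal (E (ModuleCat.of R M) k)) :
    Module.Finite R (LocCoh.H (idealOf fs) i M) := by
  obtain ⟨h1, h2, h3, h4⟩ := exists_binders (A := R)
  haveI := h1; haveI := h2; haveI := h3; haveI := h4
  obtain ⟨L, hL, hLY⟩ := exists_dual (R := R) M (Yc fs)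
  obtain ⟨d, hd⟩ := exists_bound (R := R) M
  obtain ⟨t⟩ := nonempty_cech_tensor (R := R) fs M
  obtain ⟨e⟩ := hLY (i : ℤ)
  let e' : LocCoh.H (idealOf fs) i M ≃ₗ[R] (L ⟶ (Yc fs)⟦(i : ℤ)⟧) :=
    ((cechEquiv fs (idealOf fs) rfl i M).trans
      ((DerivedCategory.homologyFunctorFactors (ModuleCat.{u} R) (i : ℤ)).app _).toLinearEquiv.symm).trans
      (((hH R (i : ℤ)).mapIso t).toLinearEquiv.symm.trans e)
  suffices IsNoetherian R (L ⟶ (Yc fs)⟦(i : ℤ)⟧) from Module.Finite.equiv e'.symm
  refine DRingLib.Devissable.of_homology (P := fun X : Dual.D R => IsNoetherian R (X ⟶ (Yc fs)⟦(i : ℤ)⟧))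
    { iso := fun {X X'} (g : X ≅ X') hX => haveI := hX; isNoetherian_of_linearEquiv (precompL g _)
      zero := fun {X} (hX : IsZero X) => by
        haveI : Subsingleton (X ⟶ (Yc fs)⟦(i : ℤ)⟧) := ⟨fun f g => hX.eq_of_src f g⟩
        infer_instance
      ext := fun T hT h1 h3 => haveI := h1; haveI := h3; isNoetherian_hom_of_triangle T hT _ }
    0 (d + 1) L (fun j hj => ?_) fun j => ?_
  · obtain ⟨ej⟩ := hL j
    haveI := hd j (by omega)
    exact @ModuleCat.isZero_of_subsingleton R _ _ ej.injective.subsingleton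
  obtain ⟨ej⟩ := hL j
  let N : ModuleCat.{u} R := (hH R j).obj L
  obtain ⟨es⟩ := nonempty_hom_single N (Yc fs) j (i : ℤ)
  suffices IsNoetherian R (DualCxLib.Ext (Yc fs) N ((i : ℤ) + j)) from isNoetherian_of_linearEquiv es.symm
  haveI : IsNoetherian R N := by
    haveI := isNoetherian_E (R := R) M j
    exact isNoetherian_of_linearEquiv ej.symm
  refine dévissage (P := fun W _ _ => IsNoetherian R (DualCxLib.Ext (Yc fs) (ModuleCat.of R W) ((i : ℤ) + j)))
    (fun W _ _ hW => by
      haveI := subsingleton_ext_zero hW (Yc fs) ((i : ℤ) + j)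
      infer_instance)
    (fun g hW => haveI := hW; isNoetherian_of_linearEquiv (precompL
      ((DerivedCategory.singleFunctor (ModuleCat.{u} R) 0).mapIso g.toModuleIso) _).symm)
    (fun S hS h1 h3 => haveI := h1; haveI := h3; isNoetherian_ext₂ hS _) N fun q hq => ?_
  by_cases hqI : idealOf fs ≤ q.asIdeal
  · obtain ⟨ek⟩ := nonempty_ext_killed fs (N := ModuleCat.of R (R ⧸ q.asIdeal))
      (fun f hf x => smul_quotient_eq_zero (hqI (Ideal.subset_span hf)) x) ((i : ℤ) + j)
    haveI := isNoetherian_E (R := R) (R ⧸ q.asIdeal) ((i : ℤ) + j)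
    exact isNoetherian_of_linearEquiv ek.symm
  · haveI := subsingleton_prime fs ((i : ℤ) + j) q fun q' hqq' hI' hht => by
      refine mem_support_not_van ej hq ?_
      rcases lt_or_ge j 0 with hj | hj
      · haveI := hd j (Or.inl hj)
        exact van_of_subsingleton
      · obtain ⟨k, rfl⟩ := Int.eq_ofNat_of_zero_le hj
        exact h q q' hqq' hqI hI' k (by omega)
    infer_instance

variable {A : Type u} [CommRing A] [Algebra R A]

/-- The finiteness theorem for a quotient of a regular ring. -/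
theorem finite_quotient [IsNoetherianRing A] (hs : Function.Surjective (algebraMap R A)) (I : Ideal A) (M : Type u)
    [AddCommGroup M] [Module A M] [Module R M] [IsScalarTower R A M] [Module.Finite R M] (i : ℕ)
    (h : ∀ r q : PrimeSpectrum A, r ≤ q → ¬ I ≤ r.asIdeal → I ≤ q.asIdeal → ∀ k : ℕ, rht R q = k + i →
      Van (below (R := R) r).asIdeal (E (ModuleCat.of R M) k)) :
    Module.Finite A (LocCoh.H I i M) := by
  obtain ⟨G, hG⟩ := (IsNoetherian.noetherian (I.comap (algebraMap R A)) : (I.comap (algebraMap R A)).FG)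
  let fs : List R := G.toList
  have hfs : idealOf fs = I.comap (algebraMap R A) := by
    rw [← hG]
    show Ideal.span {x | x ∈ G.toList} = Submodule.span R (G : Set R)
    simp only [Finset.mem_toList]
    rfl
  have hfin := finite_regular fs M i fun r q hrq hr hq k hk => by
    by_cases hker : RingHom.ker (algebraMap R A) ≤ r.asIdeal
    · obtain ⟨r', hr'⟩ : r ∈ Set.range (PrimeSpectrum.comap (algebraMap R A)) := by
        rw [range_comap_of_surjective _ _ hs, PrimeSpectrum.mem_zeroLocus]; exact hker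
      obtain ⟨q', hq'⟩ : q ∈ Set.range (PrimeSpectrum.comap (algebraMap R A)) := by
        rw [range_comap_of_surjective _ _ hs, PrimeSpectrum.mem_zeroLocus]; exact hker.trans hrq
      subst hr' hq'
      rw [hfs] at hr hq
      refine h r' q' ((comap_le_iff hs).1 hrq) (fun hI => hr (Ideal.comap_mono hI)) (fun x hx => ?_) k hk
      obtain ⟨y, rfl⟩ := hs x
      exact hq hx
    · obtain ⟨a, ha, har⟩ := SetLike.not_le_iff_exists.1 hker
      refine van_ext_of_killed (M := ModuleCat.of R M) har (fun x => ?_) _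
      show a • x = 0
      rw [← algebraMap_smul A a x, RingHom.mem_ker.1 ha, zero_smul]
  obtain ⟨φ, hφ⟩ := exists_addEquiv_restrict (idealOf fs) (R' := A) M i
  rw [← show (idealOf fs).map (algebraMap R A) = I by rw [hfs]; exact Ideal.map_comap_of_surjective _ hs I]
  obtain ⟨S, hS⟩ := hfin.fg_top
  classical
  refine ⟨⟨S.image φ.symm, eq_top_iff.2 fun x _ => ?_⟩⟩
  have hx : φ x ∈ Submodule.span R (S : Set (LocCoh.H (idealOf fs) i M)) := hS.symm ▸ Submodule.mem_top
  rw [← φ.symm_apply_apply x]
  generalize φ x = y at hx ⊢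
  induction hx using Submodule.span_induction with
  | mem v hv => exact Submodule.subset_span (Finset.mem_coe.2 (Finset.mem_image_of_mem _ hv))
  | zero => rw [map_zero]; exact zero_mem _
  | add u v _ _ hu hv => rw [map_add]; exact add_mem hu hv
  | smul a u _ hu =>
    rw [show φ.symm (a • u) = algebraMap R A a • φ.symm u from
      φ.injective (by rw [φ.apply_symm_apply, hφ, φ.apply_symm_apply])]
    exact Submodule.smul_mem _ _ hu

end FalLib
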