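import Groth.Agent.FalLib.Stalk
import Groth.Agent.LocCohLib.BaseChange

/-!
# Stalks of local cohomology and surjective ring maps
-/

set_option autoImplicit false
set_option linter.style.haveILetI false
set_option linter.unusedSectionVars false
set_option maxHeartbeats 1000000

universe u

open CategoryTheory IsLocalRing LocCohLib
open Groth.Agent Groth.Agent.DualCxLib

attribute [local instance] HasDerivedCategory.standard

noncomputable section

namespace FalLib

variable {R A : Type u} [CommRing R] [CommRing A] [Algebra R A] [IsNoetherianRing R]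

/-- The point below. -/
abbrev below (p : PrimeSpectrum A) : PrimeSpectrum R := ⟨p.asIdeal.comap (algebraMap R A), inferInstance⟩

theorem isLocalizedModule_restrict (hs : Function.Surjective (algebraMap R A)) (p : PrimeSpectrum A)
    (M : Type u) [AddCommGroup M] [Module A M] [Module R M] [IsScalarTower R A M] :
    IsLocalizedModule (below (R := R) p).asIdeal.primeCompl
      ((LocalizedModule.mkLinearMap p.asIdeal.primeCompl M).restrictScalars R) := by
  let f := LocalizedModule.mkLinearMap p.asIdeal.primeCompl M
  refine ⟨fun s => ?_, fun y => ?_, fun {x₁ x₂} h => ?_⟩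
  · have := IsLocalizedModule.map_units f (⟨algebraMap R A s, s.2⟩ : p.asIdeal.primeCompl)
    rw [Module.End.isUnit_iff] at this ⊢
    convert! this using 1
    funext y
    exact (algebraMap_smul A (s : R) y).symm
  · obtain ⟨⟨m, t⟩, ht⟩ := IsLocalizedModule.surj p.asIdeal.primeCompl f y
    obtain ⟨r, hr⟩ := hs t
    refine ⟨(m, ⟨r, fun h => t.2 (hr ▸ h)⟩), ?_⟩
    show r • y = f m
    rw [← algebraMap_smul A r y, hr]
    exact ht
  · obtain ⟨t, ht⟩ := IsLocalizedModule.exists_of_eq (S := p.asIdeal.primeCompl) (f := f) h
    obtain ⟨r, hr⟩ := hs t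
    refine ⟨⟨r, fun hm => t.2 (hr ▸ hm)⟩, ?_⟩
    show r • x₁ = r • x₂
    rw [← algebraMap_smul A r x₁, ← algebraMap_smul A r x₂, hr]
    exact ht

theorem subsingleton_stalk_iff (hs : Function.Surjective (algebraMap R A)) (p : PrimeSpectrum A)
    (M : Type u) [AddCommGroup M] [Module A M] [Module R M] [IsScalarTower R A M] (j : ℕ) :
    Subsingleton (LocCoh.H (maximalIdeal (Localization.AtPrime p.asIdeal)) j (LocalizedModule p.asIdeal.primeCompl M)) ↔
      Subsingleton (LocCoh.H (maximalIdeal (Localization.AtPrime (below (R := R) p).asIdeal)) j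
        (LocalizedModule (below (R := R) p).asIdeal.primeCompl M)) := by
  let P := (below (R := R) p).asIdeal
  let Rp := Localization.AtPrime P
  let Ap := Localization.AtPrime p.asIdeal
  let Mp := LocalizedModule p.asIdeal.primeCompl M
  haveI : IsNoetherianRing A := isNoetherianRing_of_surjective R A (algebraMap R A) hs
  haveI : IsNoetherianRing Ap := IsLocalization.isNoetherianRing p.asIdeal.primeCompl _ inferInstance
  haveI : IsNoetherianRing Rp := IsLocalization.isNoetherianRing P.primeCompl _ inferInstance
  let g : Rp →+* Ap := Localization.localRingHom P p.asIdeal (algebraMap R A) rfl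
  letI : Algebra Rp Ap := g.toAlgebra
  have hg : Function.Surjective g := fun z => by
    obtain ⟨⟨a, t⟩, rfl⟩ := IsLocalization.mk'_surjective p.asIdeal.primeCompl z
    obtain ⟨r, rfl⟩ := hs a
    obtain ⟨w, hw⟩ := hs t.1
    refine ⟨IsLocalization.mk' _ r (⟨w, fun h => t.2 (hw ▸ h)⟩ : P.primeCompl), ?_⟩
    show Localization.localRingHom P p.asIdeal (algebraMap R A) rfl (IsLocalization.mk' _ r _) = _
    rw [Localization.localRingHom_mk']
    exact congrArg (IsLocalization.mk' _ (algebraMap R A r)) (Subtype.ext hw)
  have hmax : (maximalIdeal Rp).map (algebraMap Rp Ap) = maximalIdeal Ap := by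
    haveI := Localization.isLocalHom_localRingHom P p.asIdeal (algebraMap R A) rfl
    refine le_antisymm (Ideal.map_le_iff_le_comap.2 fun x hx => ?_) fun z hz => ?_
    · rw [Ideal.mem_comap, mem_maximalIdeal, mem_nonunits_iff]
      exact fun hu => (mem_maximalIdeal x).1 hx (isUnit_of_map_unit g x hu)
    · obtain ⟨x, rfl⟩ := hg z
      exact Ideal.mem_map_of_mem g ((mem_maximalIdeal x).2 fun hu => (mem_maximalIdeal _).1 hz (hu.map g))
  letI : Module Rp Mp := Module.compHom Mp g
  haveI : IsScalarTower Rp Ap Mp := IsScalarTower.of_algebraMap_smul fun _ _ => rfl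
  haveI : IsScalarTower R Rp Mp := IsScalarTower.of_algebraMap_smul fun r x => by
    show g (algebraMap R Rp r) • x = r • x
    rw [show g (algebraMap R Rp r) = algebraMap A Ap (algebraMap R A r) from
      Localization.localRingHom_to_map P p.asIdeal (algebraMap R A) rfl r, algebraMap_smul, algebraMap_smul]
  haveI := isLocalizedModule_restrict (R := R) hs p M
  let e := (IsLocalizedModule.iso P.primeCompl
    ((LocalizedModule.mkLinearMap p.asIdeal.primeCompl M).restrictScalars R)).extendScalarsOfIsLocalization P.primeCompl Rp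
  obtain ⟨φ, -⟩ := exists_addEquiv_restrict (maximalIdeal Rp) (R' := Ap) Mp j
  rw [subsingleton_H_congr e j, ← φ.toEquiv.subsingleton_congr, hmax]

end FalLib
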